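import Groth.Agent.StkTopLib.Local

/-!
# A criterion for stacks: descent data have initial cocones
-/

set_option autoImplicit false
set_option backward.isDefEq.respectTransparency false
set_option backward.isDefEq.respectTransparency.types false

universe v₁ u₁ v u

open CategoryTheory FibCat FibLib AlgStLib
open CategoryTheory.Functor (Fiber IsStronglyCartesian)

namespace SpTorsLib

variable {C : Type u} [Category.{v} C] {𝒳 : BasedCategory.{v₁, u₁} C} {U : C} {R : Sieve U}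

/-- A cocone on a descent datum. -/
structure Cocone (K : Stk.sieveCat R ⥤ᵇ 𝒳) where
  /-- the vertex -/
  pt : 𝒳.obj
  pt_base : 𝒳.p.obj pt = U
  /-- the legs -/
  leg : ∀ a, K.obj a ⟶ pt
  leg_lift : ∀ a, 𝒳.p.IsHomLift a.obj.hom (leg a)
  leg_nat : ∀ a b (m : a ⟶ b), K.map m ≫ leg b = leg a

/-- The cocone of an extension. -/
def coconeOf (G : overCat U ⥤ᵇ 𝒳) : Cocone (BasedFunctor.comp (Stk.sieveIncl R) G) where
  pt := G.obj (Over.mk (𝟙 U))
  pt_base := G.w_obj _
  leg a := G.map (toId a.obj)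
  leg_lift a := lift_map G (toId a.obj)
  leg_nat a b m := by
    change G.map m.hom ≫ G.map (toId b.obj) = G.map (toId a.obj)
    rw [← G.toFunctor.map_comp]
    exact congrArg G.map (comp_toId _)

/-- Descent data with initial cocones make a stack. -/
theorem isStackFor_of_initial [IsFibGrpd 𝒳.p] (h1 : ∀ K : Stk.sieveCat R ⥤ᵇ 𝒳, Nonempty (Cocone K))
    (h2 : ∀ (K : Stk.sieveCat R ⥤ᵇ 𝒳) (c c' : Cocone K),
      ∃! n : c.pt ⟶ c'.pt, 𝒳.p.IsHomLift (𝟙 U) n ∧ ∀ a, c.leg a ≫ n = c'.leg a) :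
    Stk.IsStackFor R 𝒳 := by
  have hH : ∀ H : overCat U ⥤ᵇ 𝒳, PreservesStronglyCartesian H := fun H => preservesStronglyCartesian_of_isFibGrpd H
  have hfull : (Stk.resSieve R 𝒳).Full := ⟨fun {G H} α => by
    have hlift : ∀ a : (Stk.sieveCat R).obj, 𝒳.p.IsHomLift (𝟙 a.obj.left) (α.toNatTrans.app a) :=
      fun a => α.isHomLift' a
    let c' : Cocone (BasedFunctor.comp (Stk.sieveIncl R) G) :=
      { pt := H.obj (Over.mk (𝟙 U))
        pt_base := H.w_obj _
        leg := fun a => α.toNatTrans.app a ≫ H.map (toId a.obj)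
        leg_lift := fun a => by
          haveI := hlift a
          haveI : 𝒳.p.IsHomLift a.obj.hom (H.map (toId a.obj)) := lift_map H (toId a.obj)
          exact IsHomLift.comp_lift_id_left' 𝒳.p a.obj.left (α.toNatTrans.app a) a.obj.hom (H.map (toId a.obj))
        leg_nat := fun a b m => by
          rw [← Category.assoc]
          refine (congrArg (· ≫ H.map (toId b.obj)) (α.toNatTrans.naturality m)).trans ?_
          rw [Category.assoc]
          refine congrArg (α.toNatTrans.app a ≫ ·) ?_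
          change H.map m.hom ≫ H.map (toId b.obj) = H.map (toId a.obj)
          rw [← H.toFunctor.map_comp]
          exact congrArg H.map (comp_toId _) }
    obtain ⟨n, ⟨hn, hfac⟩, -⟩ := h2 _ (coconeOf G) c'
    let n' : G.obj (Over.mk (𝟙 U)) ⟶ H.obj (Over.mk (𝟙 U)) := n
    haveI hn' : 𝒳.p.IsHomLift (𝟙 U) n' := hn
    refine ⟨natTransOfId (hH H) n', bnt_ext fun a => ?_⟩
    let β := natTransOfId (hH H) n'
    change β.toNatTrans.app a.obj = α.toNatTrans.app a
    haveI : 𝒳.p.IsHomLift a.obj.hom (H.map (toId a.obj)) := lift_map H (toId a.obj)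
    haveI := hlift a
    haveI : 𝒳.p.IsHomLift (𝟙 a.obj.left) (β.toNatTrans.app a.obj) := BasedNatTrans.isHomLift β rfl
    haveI := isStronglyCartesian_of_isFibGrpd (p := 𝒳.p) a.obj.hom (H.map (toId a.obj))
    refine IsStronglyCartesian.ext 𝒳.p a.obj.hom (H.map (toId a.obj)) (𝟙 a.obj.left) ?_
    refine (β.toNatTrans.naturality (toId a.obj)).symm.trans ?_
    exact (congrArg (G.map (toId a.obj) ≫ ·) (natTransOfId_app_id (hH H) n')).trans (hfac a)⟩
  have hfaith : (Stk.resSieve R 𝒳).Faithful := ⟨fun {G H} β β' h => natTrans_ext (hH H) (by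
    let c' : Cocone (BasedFunctor.comp (Stk.sieveIncl R) G) :=
      { pt := H.obj (Over.mk (𝟙 U))
        pt_base := H.w_obj _
        leg := fun a => G.map (toId a.obj) ≫ β.toNatTrans.app (Over.mk (𝟙 U))
        leg_lift := fun a => by
          haveI : 𝒳.p.IsHomLift a.obj.hom (G.map (toId a.obj)) := lift_map G (toId a.obj)
          haveI : 𝒳.p.IsHomLift (𝟙 U) (β.toNatTrans.app (Over.mk (𝟙 U))) := BasedNatTrans.isHomLift β rfl
          exact IsHomLift.comp_lift_id_right 𝒳.p a.obj.hom (G.map (toId a.obj)) (β.toNatTrans.app (Over.mk (𝟙 U)))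
        leg_nat := fun a b m => by
          rw [← Category.assoc]
          exact congrArg (· ≫ β.toNatTrans.app (Over.mk (𝟙 U))) ((coconeOf (R := R) G).leg_nat a b m) }
    refine (h2 _ (coconeOf G) c').unique ⟨BasedNatTrans.isHomLift β rfl, fun a => rfl⟩
      ⟨BasedNatTrans.isHomLift β' rfl, fun a => ?_⟩
    change G.map (toId a.obj) ≫ β'.toNatTrans.app (Over.mk (𝟙 U)) =
      G.map (toId a.obj) ≫ β.toNatTrans.app (Over.mk (𝟙 U))
    refine (β'.toNatTrans.naturality (toId a.obj)).trans (Eq.trans ?_ (β.toNatTrans.naturality (toId a.obj)).symm)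
    exact congrArg (· ≫ H.map (toId a.obj)) (congrArg (fun t => t.toNatTrans.app a) h).symm)⟩
  refine { full := hfull, faithful := hfaith, essSurj := ⟨fun K => ?_⟩ }
  obtain ⟨c⟩ := h1 K
  let P : 𝒳.p.Fiber U := ⟨c.pt, c.pt_base⟩
  let G := ofPoint P
  obtain ⟨ε⟩ := nonempty_evalAtId_ofPoint_iso P
  let ε₀ : G.obj (Over.mk (𝟙 U)) ≅ c.pt := Functor.Fiber.fiberInclusion.mapIso ε
  haveI hε₀ : 𝒳.p.IsHomLift (𝟙 U) ε₀.hom := ε.hom.2
  have hl : ∀ a : (Stk.sieveCat R).obj, 𝒳.p.IsHomLift a.obj.hom (G.map (toId a.obj) ≫ ε₀.hom) := fun a => by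
    haveI : 𝒳.p.IsHomLift a.obj.hom (G.map (toId a.obj)) := lift_map G (toId a.obj)
    exact IsHomLift.comp_lift_id_right 𝒳.p a.obj.hom (G.map (toId a.obj)) ε₀.hom
  have hk : ∀ a : (Stk.sieveCat R).obj, ∃ k : G.obj a.obj ≅ K.obj a,
      𝒳.p.IsHomLift (𝟙 a.obj.left) k.hom ∧ k.hom ≫ c.leg a = G.map (toId a.obj) ≫ ε₀.hom := fun a => by
    haveI := c.leg_lift a
    haveI := hl a
    haveI := isStronglyCartesian_of_isFibGrpd (p := 𝒳.p) a.obj.hom (c.leg a)
    let k := IsStronglyCartesian.map 𝒳.p a.obj.hom (c.leg a) (g := 𝟙 a.obj.left) (Category.id_comp _).symm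
      (G.map (toId a.obj) ≫ ε₀.hom)
    haveI : 𝒳.p.IsHomLift (𝟙 a.obj.left) k := IsStronglyCartesian.map_isHomLift 𝒳.p _ _ _ _
    haveI := isIso_of_isHomLift (p := 𝒳.p) (𝟙 a.obj.left) k
    exact ⟨asIso k, inferInstanceAs (𝒳.p.IsHomLift (𝟙 a.obj.left) k), IsStronglyCartesian.fac 𝒳.p a.obj.hom (c.leg a) (g := 𝟙 a.obj.left) (Category.id_comp _).symm
        (G.map (toId a.obj) ≫ ε₀.hom)⟩
  choose k hkl hkf using hk
  refine ⟨G, ⟨BasedNatIso.mkNatIso (NatIso.ofComponents k fun {a b} m => ?_) hkl⟩⟩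
  change G.map m.hom ≫ (k b).hom = (k a).hom ≫ K.map m
  haveI := c.leg_lift b
  haveI := isStronglyCartesian_of_isFibGrpd (p := 𝒳.p) b.obj.hom (c.leg b)
  haveI := hkl a
  haveI := hkl b
  haveI : 𝒳.p.IsHomLift m.hom.left (G.map m.hom) := lift_map G m.hom
  haveI : 𝒳.p.IsHomLift m.hom.left (K.map m) :=
    @BasedFunctor.preserves_isHomLift _ _ _ _ K _ _ a b m.hom.left m (IsHomLift.map (Stk.sieveCat R).p m)
  haveI : 𝒳.p.IsHomLift m.hom.left (G.map m.hom ≫ (k b).hom) :=
    IsHomLift.comp_lift_id_right 𝒳.p m.hom.left (G.map m.hom) (k b).hom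
  haveI : 𝒳.p.IsHomLift m.hom.left ((k a).hom ≫ K.map m) :=
    IsHomLift.comp_lift_id_left' 𝒳.p a.obj.left (k a).hom m.hom.left (K.map m)
  refine IsStronglyCartesian.ext 𝒳.p b.obj.hom (c.leg b) m.hom.left ?_
  rw [Category.assoc, hkf, Category.assoc, c.leg_nat a b m, hkf, ← Category.assoc, ← G.toFunctor.map_comp]
  exact congrArg (· ≫ ε₀.hom) (congrArg G.map (comp_toId m.hom))

end SpTorsLib
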