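import Groth.Agent.SpTorsLib.Chart
import Groth.Agent.AlgSpLib.Fpqc
import Groth.Agent.AlgSpLib.Iso
import Groth.Agent.AlgSpLib.Fppf
import Groth.Agent.AlgStLib.Rows3
import Mathlib.AlgebraicGeometry.Morphisms.LocalFlatDescent

/-!
# Properties of the canonical map to a quotient by a group action
-/

set_option autoImplicit false
set_option backward.isDefEq.respectTransparency false
set_option backward.isDefEq.respectTransparency.types false

universe u

open CategoryTheory CategoryTheory.Limits MonoidalCategory CartesianMonoidalCategory AlgebraicGeometry Opposite AlgSp AlgSt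
  FibCat FibLib MonObj

namespace SpTorsLib

variable {S : Scheme.{u}} {B : Sp S} {G : Over B} [GrpObj G] {X : Over B} {aX : GAction G X}

theorem isPullback_trivial {V : Over S} (b : y V ⟶ B) :
    IsPullback (fst G (Over.mk b)).left (snd G (Over.mk b)).left G.hom b :=
  IsPullback.of_hasPullback G.hom b

theorem repByAlgSpWith_can_of_isLocalOnBase (hB : IsAlgSpace B) (hG : IsAlgSpace G.left) (P : MorphismProperty (Sp S))
    (hloc : IsLocalOnBase IsFppfCover P)
    (hbase : ∀ ⦃V : Over S⦄ (b : y V ⟶ B), P (snd G (Over.mk b)).left) :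
    RepByAlgSpWith P (can (aX := aX)) :=
  repByAlgSpWith_can hB hG P (fun _ _ _ _ c hc hQ f Qi p q hQi hpb h =>
    (hloc _ (fun i => ym (c i)) (IsAlgSpace.yon_obj _) (fun _ => IsAlgSpace.yon_obj _) hc f hQ Qi p q hQi hpb).2 h)
    hbase

theorem repByAlgSpWith_can_smooth (hB : IsAlgSpace B) (hG : IsAlgSpace G.left) (hs : LocP @Smooth G.hom) :
    RepByAlgSpWith (LocP @Smooth) (can (aX := aX)) :=
  repByAlgSpWith_can_of_isLocalOnBase hB hG _
    (AlgStLib.isLocalOnBase_fppf_of_fpqc (AlgSpLib.isLocalOnBase_fpqc_locP_of_descendsAlong S @Smooth))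
    fun _ b => AlgSpLib.locP_of_isPullback hG hB (IsAlgSpace.yon_obj _) (isPullback_trivial b) hs

theorem repByAlgSpWith_can_surjective (hB : IsAlgSpace B) (hG : IsAlgSpace G.left) :
    RepByAlgSpWith IsSurjectiveMor (can (aX := aX)) :=
  repByAlgSpWith_can hB hG _ (fun _ _ _ _ c hc hQ f Qi p q hQi hpb h =>
    AlgSpLib.isSurjectiveMor_of_fpqc
      (AlgSpLib.isFpqcCover_of_isFppfCover (IsAlgSpace.yon_obj _) (fun _ => IsAlgSpace.yon_obj _) hc) hpb h)
    fun V b x => ⟨Points.map (unitSec (G := G) (Over.mk b)).left x, by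
      rw [← Points.map_comp, ← Over.comp_left, unitSec_snd]
      exact Points.map_id x⟩

end SpTorsLib
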