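import Groth.Agent.SpTorsLib.Local
import Mathlib.CategoryTheory.Limits.Constructions.Over.Connected

/-!
# The category of sheaf torsors with a map to `X` is fibred in groupoids
-/

set_option autoImplicit false
set_option backward.isDefEq.respectTransparency false
set_option backward.isDefEq.respectTransparency.types false

universe u

open CategoryTheory CategoryTheory.Limits MonoidalCategory CartesianMonoidalCategory AlgebraicGeometry Opposite AlgSp AlgSt

namespace SpTorsLib

variable {S : Scheme.{u}} {B : Sp S} {G : Over B} [GrpObj G] {X : Over B} {aX : GAction G X}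

section Over

theorem isPullback_left {P X' Y Z : Over B} {fst : P ⟶ X'} {snd : P ⟶ Y} {f : X' ⟶ Z} {g : Y ⟶ Z}
    (h : IsPullback fst snd f g) : IsPullback fst.left snd.left f.left g.left :=
  h.map (CategoryTheory.Over.forget B)

theorem isPullback_of_left {P X' Y Z : Over B} {fst : P ⟶ X'} {snd : P ⟶ Y} {f : X' ⟶ Z} {g : Y ⟶ Z}
    (h : IsPullback fst.left snd.left f.left g.left) : IsPullback fst snd f g :=
  IsPullback.of_map (CategoryTheory.Over.forget B) (Over.OverMorphism.ext h.w) h

theorem over_hom_ext {X' Y : Over B} {f g : X' ⟶ Y} (h : f.left = g.left) : f = g :=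
  Over.OverMorphism.ext h

end Over

variable {K : Precoverage Scheme.{u}}

section Transport

/-- The action on the pullback of a pseudo-torsor. -/
noncomputable def pullAct (A : SpQuotObj K G aX) {Y P' : Over B} {p : P' ⟶ A.P} {q : P' ⟶ Y}
    {m : Y ⟶ Over.mk A.b} (h : IsPullback p q A.π m) : GAction G P' where
  act := h.lift ((G ◁ p) ≫ A.act.act) (snd G P' ≫ q) (by
    rw [Category.assoc, Category.assoc, A.cart.w, ← h.w, whiskerLeft_snd_assoc])
  one_act := by
    refine h.hom_ext ?_ ?_
    · rw [Category.assoc, h.lift_fst, ← whisker_exchange_assoc, A.act.one_act, leftUnitor_naturality]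
    · rw [Category.assoc, h.lift_snd, whiskerRight_snd_assoc, leftUnitor_hom]
  mul_act := by
    refine h.hom_ext ?_ ?_
    · rw [Category.assoc, h.lift_fst, ← whisker_exchange_assoc, A.act.mul_act, Category.assoc, Category.assoc,
        h.lift_fst, ← MonoidalCategory.whiskerLeft_comp_assoc, h.lift_fst, MonoidalCategory.whiskerLeft_comp,
        Category.assoc, ← associator_naturality_right_assoc]
    · rw [Category.assoc, h.lift_snd, Category.assoc, Category.assoc, h.lift_snd, whiskerLeft_snd_assoc,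
        h.lift_snd, whiskerRight_snd_assoc, associator_hom_snd_snd_assoc]

theorem pullAct_fst (A : SpQuotObj K G aX) {Y P' : Over B} {p : P' ⟶ A.P} {q : P' ⟶ Y}
    {m : Y ⟶ Over.mk A.b} (h : IsPullback p q A.π m) : (pullAct A h).act ≫ p = (G ◁ p) ≫ A.act.act :=
  h.lift_fst _ _ _

theorem pullAct_snd (A : SpQuotObj K G aX) {Y P' : Over B} {p : P' ⟶ A.P} {q : P' ⟶ Y}
    {m : Y ⟶ Over.mk A.b} (h : IsPullback p q A.π m) : (pullAct A h).act ≫ q = snd G P' ≫ q :=
  h.lift_snd _ _ _

theorem pullAct_cart (A : SpQuotObj K G aX) {Y P' : Over B} {p : P' ⟶ A.P} {q : P' ⟶ Y}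
    {m : Y ⟶ Over.mk A.b} (h : IsPullback p q A.π m) : IsPullback (pullAct A h).act (snd G P') q q := by
  refine IsPullback.of_right ?_ (pullAct_snd A h) h
  have h2 := ((isPullback_whiskerLeft' (G := G) p).paste_horiz A.cart)
  rw [← pullAct_fst A h, h.w] at h2
  exact h2

end Transport

theorem hasSecLoc_pull {T T' : Over S} (f : T' ⟶ T) {P P' : Sp S} (π : P ⟶ y T) (π' : P' ⟶ y T') (p : P' ⟶ P)
    (h : IsPullback p π' π (ym f)) (hloc : HasSecLoc Scheme.fppfPrecoverage π) :
    HasSecLoc Scheme.fppfPrecoverage π' := by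
  obtain ⟨R, hR, hs⟩ := hloc
  refine ⟨R.pullbackArrows f.left, Precoverage.pullbackArrows_mem f.left hR, ?_⟩
  rintro W g ⟨Z, k, hk⟩
  obtain ⟨s, hs⟩ := hs k hk
  let W' : Over S := Over.mk (pullback.snd k f.left ≫ T'.hom)
  let a : W' ⟶ Over.mk (k ≫ T.hom) := Over.homMk (pullback.fst k f.left) (by
    change pullback.fst k f.left ≫ k ≫ T.hom = pullback.snd k f.left ≫ T'.hom
    rw [pullback.condition_assoc, Over.w])
  let b : W' ⟶ T' := Over.homMk (pullback.snd k f.left)
  have e : ym a ≫ ym (Over.homMk k : Over.mk (k ≫ T.hom) ⟶ T) = ym b ≫ ym f := by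
    rw [← ym_comp, ← ym_comp]
    exact congrArg ym (Over.OverMorphism.ext pullback.condition)
  refine ⟨h.lift (ym a ≫ s) (ym b) ?_, h.lift_snd _ _ _⟩
  rw [Category.assoc, hs]
  exact e

/-- The pullback of an object along a morphism of schemes. -/
noncomputable def pullObj (A : SpQuotObj Scheme.fppfPrecoverage G aX) {T' : Over S} (f : T' ⟶ A.base) :
    SpQuotObj Scheme.fppfPrecoverage G aX where
  base := T'
  b := ym f ≫ A.b
  P := pullback A.π (bHom f rfl : Over.mk (ym f ≫ A.b) ⟶ Over.mk A.b)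
  act := pullAct A (IsPullback.of_hasPullback A.π (bHom f rfl : Over.mk (ym f ≫ A.b) ⟶ Over.mk A.b))
  π := pullback.snd _ _
  cart := pullAct_cart A _
  loc := hasSecLoc_pull f A.π.left _ (pullback.fst A.π (bHom f rfl : Over.mk (ym f ≫ A.b) ⟶ Over.mk A.b)).left
    (isPullback_left (IsPullback.of_hasPullback _ _)) A.loc
  φ := pullback.fst _ _ ≫ A.φ
  eqv := by rw [← Category.assoc, pullAct_fst, MonoidalCategory.whiskerLeft_comp, Category.assoc, Category.assoc, A.eqv]

/-- The projection from the pullback. -/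
noncomputable def pullHom (A : SpQuotObj Scheme.fppfPrecoverage G aX) {T' : Over S} (f : T' ⟶ A.base) :
    pullObj A f ⟶ A where
  base := f
  wb := rfl
  top := pullback.fst _ _
  eqv := pullAct_fst A _
  cart := IsPullback.of_hasPullback _ _
  wφ := rfl

/-- Morphisms factor uniquely through morphisms over the base. -/
theorem existsUnique_fac {A A' A'' : SpQuotObj K G aX} (φ : A' ⟶ A) (ψ : A'' ⟶ A) (g : A''.base ⟶ A'.base)
    (w : g ≫ φ.base = ψ.base) : ∃! χ : A'' ⟶ A', χ.base = g ∧ χ ≫ φ = ψ := by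
  have wb : ym g ≫ A'.b = A''.b := by rw [← φ.wb, ← Category.assoc, ← ym_comp, w, ψ.wb]
  have wc : ψ.top ≫ A.π = (A''.π ≫ bHom g wb) ≫ bHom φ.base φ.wb := by
    rw [Category.assoc, ψ.cart.w]
    refine congrArg (A''.π ≫ ·) (over_hom_ext ?_)
    change ym ψ.base = ym g ≫ ym φ.base
    rw [← ym_comp, w]
  let t := φ.cart.lift ψ.top (A''.π ≫ bHom g wb) wc
  have h1 : t ≫ φ.top = ψ.top := φ.cart.lift_fst _ _ _
  have h2 : t ≫ A'.π = A''.π ≫ bHom g wb := φ.cart.lift_snd _ _ _
  have heqv : A''.act.act ≫ t = (G ◁ t) ≫ A'.act.act := by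
    refine φ.cart.hom_ext ?_ ?_
    · rw [Category.assoc, h1, ψ.eqv, Category.assoc, φ.eqv, ← MonoidalCategory.whiskerLeft_comp_assoc, h1]
    · rw [Category.assoc, h2, ← Category.assoc, A''.cart.w, Category.assoc, Category.assoc, A'.cart.w,
        whiskerLeft_snd_assoc, h2]
  have hcart : IsPullback t A''.π A'.π (bHom g wb) := by
    refine IsPullback.of_right ?_ h2 φ.cart
    rw [h1]
    have := ψ.cart
    convert this using 2
    exact over_hom_ext (by change ym g ≫ ym φ.base = ym ψ.base; rw [← ym_comp, w])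
  let χ : A'' ⟶ A' :=
    { base := g, wb := wb, top := t, eqv := heqv, cart := hcart, wφ := by
        rw [← φ.wφ, ← Category.assoc, h1, ψ.wφ] }
  refine ⟨χ, ⟨rfl, SpQuotObj.hom_ext w h1⟩, fun χ' hχ' => SpQuotObj.hom_ext hχ'.1 ?_⟩
  refine φ.cart.hom_ext ?_ ?_
  · exact (congrArg (fun k => k.top) hχ'.2).trans h1.symm
  · change χ'.top ≫ A'.π = t ≫ A'.π
    rw [h2, χ'.cart.w]
    refine congrArg (A''.π ≫ ·) (over_hom_ext ?_)
    exact congrArg ym hχ'.1

theorem isFibGrpd_spQuotSt : FibCat.IsFibGrpd (SpQuotObj.forget Scheme.fppfPrecoverage G aX) where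
  exists_lift := fun {A} {T'} f => ⟨pullObj A f, pullHom A f,
    IsHomLift.map (p := SpQuotObj.forget Scheme.fppfPrecoverage G aX) (pullHom A f)⟩
  isStronglyCartesian := fun {A' A} φ =>
    { toIsHomLift := IsHomLift.map (p := SpQuotObj.forget Scheme.fppfPrecoverage G aX) φ
      universal_property' := fun {A''} g ψ hψ => by
        have hg : g ≫ φ.base = ψ.base :=
          IsHomLift.eq_of_isHomLift (SpQuotObj.forget Scheme.fppfPrecoverage G aX)
            (g ≫ (SpQuotObj.forget Scheme.fppfPrecoverage G aX).map φ) ψ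
        obtain ⟨χ, ⟨hχ, hfac⟩, hu⟩ := existsUnique_fac φ ψ g hg
        refine ⟨χ, ⟨?_, hfac⟩, fun χ' hχ' => hu χ' ⟨?_, hχ'.2⟩⟩
        · subst hχ
          exact IsHomLift.map (p := SpQuotObj.forget Scheme.fppfPrecoverage G aX) χ
        · haveI := hχ'.1
          exact (IsHomLift.eq_of_isHomLift (SpQuotObj.forget Scheme.fppfPrecoverage G aX) g χ').symm }

end SpTorsLib
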