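import Groth.Agent.SpTorsLib.Stack
import Groth.Prelude.Def_AlgSt3
import Groth.Agent.AlgSpLib.Fppf
import Groth.Agent.AlgSpLib.LocP
import Groth.Agent.S10138
import Groth.Agent.StkTopLib.Sub

/-!
# Torsors which are algebraic spaces
-/

set_option autoImplicit false
set_option backward.isDefEq.respectTransparency false
set_option backward.isDefEq.respectTransparency.types false

universe u

open CategoryTheory CategoryTheory.Limits MonoidalCategory CartesianMonoidalCategory AlgebraicGeometry Opposite AlgSp AlgSt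

namespace SpTorsLib

variable {S : Scheme.{u}} {B : Sp S} {G : Over B} [GrpObj G] {X : Over B} {aX : GAction G X}

theorem exists_points_cover {T : Over S} {R : Presieve T.left} (hR : R ∈ Scheme.fppfPrecoverage T.left) :
    ∀ z : T.left, ∃ (Z : Scheme.{u}) (f : Z ⟶ T.left), R f ∧ Flat f ∧ LocallyOfFinitePresentation f ∧
      z ∈ Set.range f := by
  obtain ⟨ι, Z, f, rfl⟩ := R.exists_eq_ofArrows
  obtain ⟨hs, hf⟩ := (Scheme.ofArrows_mem_precoverage_iff _).1 hR
  intro z
  obtain ⟨i, hi⟩ := hs z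
  exact ⟨Z i, f i, Presieve.ofArrows.mk i, (hf i).1, (hf i).2, hi⟩

theorem isFppfCover_yon {T : Over S} {ι : Type u} {V : ι → Over S} (c : ∀ i, V i ⟶ T)
    (hf : ∀ i, Flat (c i).left) (hp : ∀ i, LocallyOfFinitePresentation (c i).left)
    (hs : ∀ z : T.left, ∃ i, z ∈ Set.range (c i).left) :
    IsFppfCover (fun i => y (V i)) (fun i => ym (c i)) := by
  refine ⟨fun i => ⟨(AlgSpLib.locP_yon_map_iff (P := @Flat) (c i)).2 (hf i),
    (AlgSpLib.locP_yon_map_iff (P := @LocallyOfFinitePresentation) (c i)).2 (hp i)⟩, fun x => ?_⟩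
  obtain ⟨z, rfl⟩ := (Points.schemeEquiv T).surjective x
  obtain ⟨i, w, hw⟩ := hs z
  exact ⟨i, Points.schemeEquiv (V i) w, (Points.map_yon_map_apply (c i) w).trans (congrArg _ hw)⟩

/-- A torsor is an algebraic space if it is one after an fppf covering. -/
theorem isAlgSpace_of_pieces (A : SpQuotObj Scheme.fppfPrecoverage G aX) {ι : Type u} {V : ι → Over S}
    (c : ∀ i, V i ⟶ A.base) (hf : ∀ i, Flat (c i).left) (hp : ∀ i, LocallyOfFinitePresentation (c i).left)
    (hs : ∀ z : A.base.left, ∃ i, z ∈ Set.range (c i).left)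
    (h : ∀ i, ∃ (Q : Sp S) (q : Q ⟶ A.P.left) (r : Q ⟶ y (V i)),
      IsPullback q r A.π.left (ym (c i)) ∧ IsAlgSpace Q) : IsAlgSpace A.P.left :=
  Groth.Agent.S10138.result S ⟨y A.base, IsAlgSpace.yon_obj A.base⟩
    (fun i => ⟨y (V i), IsAlgSpace.yon_obj (V i)⟩) (fun i => ym (c i)) (isFppfCover_yon c hf hp hs) A.P.left A.π.left
    fun i P fst snd hP => by
      obtain ⟨Q, q, r, hQ, hQs⟩ := h i
      exact hQs.of_iso (hQ.isoIsPullback _ _ hP)

/-- A torsor with a section is trivial. -/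
theorem isPullback_of_section {K : Precoverage Scheme.{u}} (A : SpQuotObj K G aX) {V : Over S} (f : V ⟶ A.base)
    (s : y V ⟶ A.P.left) (hs : s ≫ A.π.left = ym f) :
    ∃ (σ : Over.mk (ym f ≫ A.b) ⟶ A.P), σ.left = s ∧
      IsPullback ((G ◁ σ) ≫ A.act.act) (snd G (Over.mk (ym f ≫ A.b))) A.π (bHom f rfl) := by
  let σ : Over.mk (ym f ≫ A.b) ⟶ A.P := Over.homMk s (by
    change s ≫ A.P.hom = ym f ≫ A.b
    rw [← hs, Category.assoc]
    exact congrArg (s ≫ ·) (Over.w A.π).symm)
  refine ⟨σ, rfl, ?_⟩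
  have h := (isPullback_whiskerLeft' (G := G) σ).paste_horiz A.cart
  have e : σ ≫ A.π = bHom f rfl := over_hom_ext hs
  rwa [e] at h

theorem isAlgSpace_trivial (hB : IsAlgSpace B) (hG : IsAlgSpace G.left) {V : Over S} (b : y V ⟶ B) :
    IsAlgSpace (G ⊗ Over.mk b).left :=
  AlgSpLib.isAlgSpace_pullback hG (IsAlgSpace.yon_obj V) hB G.hom b

theorem isAlgSpace_torsor (hB : IsAlgSpace B) (hG : IsAlgSpace G.left)
    (A : SpQuotObj Scheme.fppfPrecoverage G aX) : IsAlgSpace A.P.left := by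
  obtain ⟨R, hR, hsec⟩ := A.loc
  choose Z f hf hflat hlfp hz using exists_points_cover (T := A.base) hR
  refine isAlgSpace_of_pieces A (V := fun z => Over.mk (f z ≫ A.base.hom)) (fun z => Over.homMk (f z)) hflat hlfp
    (fun z => ⟨z, hz z⟩) fun z => ?_
  obtain ⟨s, hs⟩ := hsec (f z) (hf z)
  obtain ⟨σ, -, h⟩ := isPullback_of_section A _ s hs
  exact ⟨_, _, _, isPullback_left h, isAlgSpace_trivial hB hG _⟩

theorem isIso_top_of_iso {A A' : SpQuotObj Scheme.fppfPrecoverage G aX} (e : A ≅ A') : IsIso e.hom.top.left :=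
  ⟨e.inv.top.left, congrArg (fun k => k.top.left) e.hom_inv_id, congrArg (fun k => k.top.left) e.inv_hom_id⟩

theorem isHomLift_id (A : SpQuotObj Scheme.fppfPrecoverage G aX) :
    (SpQuotObj.forget Scheme.fppfPrecoverage G aX).IsHomLift (𝟙 A.base) (Iso.refl A).hom :=
  IsHomLift.id rfl

theorem isStack_fullSub_isAlgSpace :
    Stk.IsStack (AlgSp.J S)
      (AlgSt.fullSub (SpQuotSt Scheme.fppfPrecoverage G aX) (fun A => AlgSp.IsAlgSpace A.P.left)) := by
  refine StkTopLib.isStack_sub isStack_spQuotSt _ (fun A' A φ hA => ?_) (fun U R hR A hA hloc => ?_)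
  · refine ⟨A', Iso.refl _, ?_, isHomLift_id A'⟩
    · exact AlgSpLib.isAlgSpace_of_isPullback hA (IsAlgSpace.yon_obj A'.base) (IsAlgSpace.yon_obj A.base)
        (isPullback_left φ.cart)
  · obtain rfl : A.base = U := hA
    refine ⟨A, Iso.refl _, ?_, isHomLift_id A⟩
    have h : Sieve.overEquiv A.base R ∈ Scheme.fppfPrecoverage.toGrothendieck A.base.left :=
      (GrothendieckTopology.mem_over_iff _ _).1 hR
    obtain ⟨R₀, hR₀, hle⟩ := Precoverage.mem_toGrothendieck_iff_of_isStableUnderComposition.1 h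
    choose Z f hf hflat hlfp hz using exists_points_cover (T := A.base) hR₀
    refine isAlgSpace_of_pieces A (V := fun z => Over.mk (f z ≫ A.base.hom)) (fun z => Over.homMk (f z)) hflat hlfp
      (fun z => ⟨z, hz z⟩) fun z => ?_
    let g : Over.mk (f z ≫ A.base.hom) ⟶ A.base := Over.homMk (f z)
    obtain ⟨A', e, hA', -⟩ := hloc g ((Sieve.overEquiv_iff R (f z)).1 (hle _ _ (hf z))) (pullObj A g) (pullHom A g)
      (IsHomLift.map (p := SpQuotObj.forget Scheme.fppfPrecoverage G aX) (pullHom A g))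
    haveI := isIso_top_of_iso e
    exact ⟨_, _, _, isPullback_left (pullHom A g).cart, IsAlgSpace.of_iso hA' (asIso e.hom.top.left).symm⟩

end SpTorsLib
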