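import Groth.Agent.SpTorsLib.Glue
import Groth.Agent.SpTorsLib.Criterion

/-!
# `[X/G]` with sheaf torsors is a stack
-/

set_option autoImplicit false
set_option backward.isDefEq.respectTransparency false
set_option backward.isDefEq.respectTransparency.types false

universe u

open CategoryTheory CategoryTheory.Limits MonoidalCategory CartesianMonoidalCategory AlgebraicGeometry Opposite AlgSp AlgSt

namespace SpTorsLib

variable {S : Scheme.{u}} {B : Sp S} {G : Over B} [GrpObj G] {X : Over B} {aX : GAction G X} {T : Over S}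
variable {R : Sieve T} (hR : R ∈ AlgSp.J S T)
variable (K : Stk.sieveCat R ⥤ᵇ SpQuotSt Scheme.fppfPrecoverage G aX)

theorem baseEq (a : (Stk.sieveCat R).obj) : (K.obj a).base = a.obj.left := K.w_obj a

theorem base_map {a b : (Stk.sieveCat R).obj} (m : a ⟶ b) :
    (K.map m).base = eqToHom (baseEq K a) ≫ m.hom.left ≫ eqToHom (baseEq K b).symm :=
  CategoryTheory.Functor.congr_hom K.w m

/-- The morphism of the sieve under a morphism of bases over `T`. -/
noncomputable def sieveHom (a b : (Stk.sieveCat R).obj) (g : (K.obj a).base ⟶ (K.obj b).base)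
    (h : g ≫ eqToHom (baseEq K b) ≫ b.obj.hom = eqToHom (baseEq K a) ≫ a.obj.hom) : a ⟶ b :=
  ObjectProperty.homMk (Over.homMk (eqToHom (baseEq K a).symm ≫ g ≫ eqToHom (baseEq K b)) (by
    rw [Category.assoc, Category.assoc, h, eqToHom_trans_assoc, eqToHom_refl, Category.id_comp]))

theorem sieveHom_left (a b : (Stk.sieveCat R).obj) (g : (K.obj a).base ⟶ (K.obj b).base)
    (h : g ≫ eqToHom (baseEq K b) ≫ b.obj.hom = eqToHom (baseEq K a) ≫ a.obj.hom) :
    (sieveHom K a b g h).hom.left = eqToHom (baseEq K a).symm ≫ g ≫ eqToHom (baseEq K b) := rfl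

/-- The datum of a descent datum. -/
noncomputable def datumOf : Datum aX T where
  R := R
  hR := hR
  I := (Stk.sieveCat R).obj
  A := K.obj
  t a := eqToHom (baseEq K a) ≫ a.obj.hom
  ht a := R.downward_closed a.property _
  cov W w hw := ⟨⟨Over.mk w, hw⟩, eqToHom (baseEq K ⟨Over.mk w, hw⟩).symm, inferInstance, by
    rw [eqToHom_trans_assoc, eqToHom_refl, Category.id_comp]
    rfl⟩
  L a b g h := K.map (sieveHom K a b g h)
  L_base a b g h := by
    rw [base_map, sieveHom_left]
    simp
  L_id a h := by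
    rw [← K.toFunctor.map_id]
    refine congrArg K.map (ObjectProperty.hom_ext _ (Over.OverMorphism.ext ?_))
    rw [sieveHom_left, Category.id_comp, eqToHom_trans, eqToHom_refl]
    rfl
  L_comp a b c g g' h h' h'' := by
    rw [← K.toFunctor.map_comp]
    refine congrArg K.map (ObjectProperty.hom_ext _ (Over.OverMorphism.ext ?_))
    change (sieveHom K a b g h).hom.left ≫ (sieveHom K b c g' h').hom.left = (sieveHom K a c (g ≫ g') h'').hom.left
    simp only [sieveHom_left, Category.assoc, eqToHom_trans_assoc, eqToHom_refl, Category.id_comp]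

include hR in
theorem nonempty_cocone : Nonempty (Cocone K) := by
  let D := datumOf hR K
  refine ⟨{ pt := D.glue, pt_base := rfl, leg := fun a => D.glueHom a, leg_lift := fun a => ?_, leg_nat := ?_ }⟩
  · exact IsHomLift.of_fac' (SpQuotObj.forget Scheme.fppfPrecoverage G aX) _ _ (baseEq K a) rfl
      (show (D.glueHom a).base = eqToHom (baseEq K a) ≫ a.obj.hom ≫ eqToHom (rfl : T = T) by
        rw [eqToHom_refl, Category.comp_id]; rfl)
  · intro a b m
    have h : (K.map m).base ≫ eqToHom (baseEq K b) ≫ b.obj.hom = eqToHom (baseEq K a) ≫ a.obj.hom := by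
      rw [base_map]
      simp only [Category.assoc, eqToHom_trans_assoc, eqToHom_refl, Category.id_comp]
      rw [Over.w m.hom]
    have e : K.map m = D.L a b (K.map m).base h := by
      refine congrArg K.map (ObjectProperty.hom_ext _ (Over.OverMorphism.ext ?_))
      rw [sieveHom_left, base_map]
      simp
    rw [e]
    exact D.L_glueHom a b _ h

include hR in
theorem existsUnique_of_cocones (c c' : Cocone K) :
    ∃! n : c.pt ⟶ c'.pt, (SpQuotObj.forget Scheme.fppfPrecoverage G aX).IsHomLift (𝟙 T) n ∧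
      ∀ a, c.leg a ≫ n = c'.leg a := by
  obtain ⟨x, hx, l, hl, hln⟩ := c
  obtain ⟨x', hx', l', hl', hln'⟩ := c'
  have hx0 : x.base = T := hx
  subst hx0
  have hx'0 : x'.base = x.base := hx'
  let D := datumOf hR K
  have hb : ∀ a, (l a).base = D.t a := fun a => by
    haveI := hl a
    exact (IsHomLift.fac' (SpQuotObj.forget Scheme.fppfPrecoverage G aX) a.obj.hom (l a)).trans (by simp; rfl)
  have hb' : ∀ a, (l' a).base = D.t a ≫ eqToHom hx'0.symm := fun a => by
    haveI := hl' a
    exact (IsHomLift.fac' (SpQuotObj.forget Scheme.fppfPrecoverage G aX) a.obj.hom (l' a)).trans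
      (Category.assoc _ _ _).symm
  obtain ⟨n, ⟨hn, hnf⟩, hu⟩ := existsUnique_desc D l hb
    (fun a b g h => hln a b (sieveHom K a b g h)) l' (eqToHom hx'0.symm) hb'
    (fun a b g h => hln' a b (sieveHom K a b g h))
  refine ⟨n, ⟨?_, hnf⟩, fun n' hn' => hu n' ⟨?_, hn'.2⟩⟩
  · exact IsHomLift.of_fac' (SpQuotObj.forget Scheme.fppfPrecoverage G aX) _ _ rfl hx'0
      (show n.base = eqToHom rfl ≫ 𝟙 x.base ≫ eqToHom hx'0.symm by simp [hn])
  · haveI := hn'.1
    exact (IsHomLift.fac' (SpQuotObj.forget Scheme.fppfPrecoverage G aX) (𝟙 x.base) n').trans (by simp)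

theorem isStack_spQuotSt : Stk.IsStack (AlgSp.J S) (SpQuotSt Scheme.fppfPrecoverage G aX) := by
  haveI : FibCat.IsFibGrpd (SpQuotSt Scheme.fppfPrecoverage G aX).p := isFibGrpd_spQuotSt
  exact ⟨inferInstance, fun U R hR => isStackFor_of_initial (fun K => nonempty_cocone hR K)
    (fun K c c' => existsUnique_of_cocones hR K c c')⟩

end SpTorsLib
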