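import Groth.Agent.AlgStLib.Sq
import Groth.Agent.AlgStLib.Rep

/-!
# The diagonal along a pair with a constant component
-/

set_option autoImplicit false
set_option backward.isDefEq.respectTransparency false
set_option backward.isDefEq.respectTransparency.types false

universe w v₂ u₂ v u

open CategoryTheory Opposite FibCat FibLib AlgStLib

namespace SpTorsLib

variable {C : Type u} [Category.{v} C] {𝒳 : BasedCategory.{v₂, u₂} C} {G H : Cᵒᵖ ⥤ Type w}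

theorem isEquivOver_fpFst_of_section (x : Stk.ofPsh G ⥤ᵇ 𝒳) (s : selfOver C ⥤ᵇ 𝒳) :
    IsEquivOver (FibCat.fpFst (BasedFunctor.comp x (toSelf 𝒳)) (BasedFunctor.comp s (toSelf 𝒳))) := by
  obtain ⟨e⟩ := nonempty_iso_selfOver
    (BasedFunctor.comp (BasedFunctor.id (Stk.ofPsh G)) (BasedFunctor.comp x (toSelf 𝒳)))
    (BasedFunctor.comp (toSelf (Stk.ofPsh G)) (BasedFunctor.comp s (toSelf 𝒳)))
  let L := fpLift (BasedFunctor.id (Stk.ofPsh G)) (toSelf (Stk.ofPsh G)) e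
  obtain ⟨j⟩ := nonempty_iso_selfOver
    (BasedFunctor.comp (BasedFunctor.comp (FibCat.fpFst (BasedFunctor.comp x (toSelf 𝒳)) (BasedFunctor.comp s (toSelf 𝒳))) L)
      (FibCat.fpSnd _ _))
    (BasedFunctor.comp (BasedFunctor.id _) (FibCat.fpSnd (BasedFunctor.comp x (toSelf 𝒳)) (BasedFunctor.comp s (toSelf 𝒳))))
  refine ⟨L, ⟨fpIsoExt _ _ (Iso.refl _) j fun η => ?_⟩, ⟨Iso.refl _⟩⟩
  let T := (fp (BasedFunctor.comp x (toSelf 𝒳)) (BasedFunctor.comp s (toSelf 𝒳))).p.obj η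
  haveI h1 : (selfOver C).p.IsHomLift (𝟙 T) η.obj.iso.hom := η.property
  haveI h2 : (selfOver C).p.IsHomLift (𝟙 T) ((BasedFunctor.comp (FibCat.fpFst (BasedFunctor.comp x (toSelf 𝒳))
      (BasedFunctor.comp s (toSelf 𝒳))) L).obj η).obj.iso.hom :=
    ((BasedFunctor.comp (FibCat.fpFst _ _) L).obj η).property
  haveI h3 : (selfOver C).p.IsHomLift (𝟙 T) (appIso j η).hom := appIso_lift j rfl
  haveI h4 : (selfOver C).p.IsHomLift (𝟙 T) ((BasedFunctor.comp s (toSelf 𝒳)).map (appIso j η).hom) :=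
    (BasedFunctor.comp s (toSelf 𝒳)).preserves_isHomLift (𝟙 T) (appIso j η).hom
  rw [appIso_refl, CategoryTheory.Functor.map_id]
  refine (Category.id_comp η.obj.iso.hom).trans ?_
  exact @eq_of_selfOver C _ _ _ _ _ (𝟙 T) _ _ h1
    (@IsHomLift.comp_lift_id_left _ _ _ _ (selfOver C).p _ _ _ _ _ (𝟙 T) _ h4 _ h2)

/-- A pullback of a constant section is a pullback of the diagonal. -/
theorem along_diag_of_section (s : selfOver C ⥤ᵇ 𝒳) (u : Stk.ofPsh G ⥤ᵇ fp (toSelf 𝒳) (toSelf 𝒳))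
    (i : BasedFunctor.comp u (FibCat.fpSnd _ _) ≅ BasedFunctor.comp (toSelf (Stk.ofPsh G)) s) (a : H ⟶ G)
    (h : Along (BasedFunctor.comp u (FibCat.fpFst _ _)) s a) : Along u (diag (toSelf 𝒳)) a := by
  let x := BasedFunctor.comp u (FibCat.fpFst (toSelf 𝒳) (toSelf 𝒳))
  let P := FibCat.fpFst (BasedFunctor.comp x (toSelf 𝒳)) (BasedFunctor.comp s (toSelf 𝒳))
  obtain ⟨j⟩ := nonempty_iso_selfOver (BasedFunctor.comp P (toSelf (Stk.ofPsh G)))
    (FibCat.fpSnd (BasedFunctor.comp x (toSelf 𝒳)) (BasedFunctor.comp s (toSelf 𝒳)))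
  have α : BasedFunctor.comp P u ≅ fpPair x s (toSelf 𝒳) :=
    fpToSelfIsoExt _ _ (Iso.refl _) (whiskerLeftIso' P i ≪≫ whiskerRightIso' j s)
  haveI : (BasedFunctor.id (fp (toSelf 𝒳) (toSelf 𝒳))).toFunctor.Full := inferInstanceAs (𝟭 _).Full
  haveI : (BasedFunctor.id (fp (toSelf 𝒳) (toSelf 𝒳))).toFunctor.Faithful := inferInstanceAs (𝟭 _).Faithful
  let M : fp (fpPair x s (toSelf 𝒳)) (diag (toSelf 𝒳)) ⥤ᵇ fp u (diag (toSelf 𝒳)) :=
    fpMap (a := P) (b := BasedFunctor.id 𝒳) (c := BasedFunctor.id (fp (toSelf 𝒳) (toSelf 𝒳))) α (Iso.refl _)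
  have hM : IsEquivOver M := isEquivOver_fpMap _ _ (isEquivOver_fpFst_of_section x s) (isEquivOver_id _)
  exact PRep.transport h (isEquivOver_comp (isEquivOver_fpMagic x s (toSelf 𝒳)) hM) (Iso.refl _)

end SpTorsLib
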