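import Groth.Agent.SpTorsLib.ChartProps
import Groth.Agent.SpTorsLib.DiagTriv
import Groth.Agent.AlgStLib.QcMor
import Groth.Agent.AlgStLib.Rows4
import Groth.Agent.S10138

/-!
# The diagonal of the classifying stack
-/

set_option autoImplicit false
set_option backward.isDefEq.respectTransparency false
set_option backward.isDefEq.respectTransparency.types false

universe u

open CategoryTheory CategoryTheory.Limits MonoidalCategory CartesianMonoidalCategory AlgebraicGeometry Opposite AlgSp AlgSt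
  FibCat FibLib AlgStLib MonObj

namespace SpTorsLib

variable {S : Scheme.{u}} {G : Over (y (Over.mk (𝟙 S)))} [GrpObj G]

variable (G) in
/-- The classifying stack. -/
noncomputable abbrev BG := SpBG Scheme.fppfPrecoverage G

/-- The base category is the space of the terminal object. -/
noncomputable def baseEquiv : selfOver (Over S) ⥤ᵇ ofSp (𝟙_ (Over (y (Over.mk (𝟙 S))))).left where
  toFunctor :=
    { obj := fun T => ⟨T, ⟨Over.homMk T.hom (Category.comp_id _)⟩⟩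
      map := fun {T T'} m => ⟨m, ULift.ext _ _ (Over.OverMorphism.ext (Over.w m))⟩ }
  w := rfl

theorem subsingleton_sec (V : Over S) : Subsingleton ((𝟙_ (Over (y (Over.mk (𝟙 S))))).left.obj.obj (op V)) :=
  ⟨fun a b => ULift.ext _ _ (Over.OverMorphism.ext
    (((Category.comp_id _).symm.trans (Over.w a.down)).trans ((Category.comp_id _).symm.trans (Over.w b.down)).symm))⟩

theorem isEquivOver_toSelf_base : IsEquivOver (toSelf (ofSp (𝟙_ (Over (y (Over.mk (𝟙 S))))).left)) := by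
  refine ⟨baseEquiv, nonempty_iso_of_sec fun a => ?_, nonempty_iso_selfOver _ _⟩
  haveI := subsingleton_sec (S := S) ((ofSp (𝟙_ (Over (y (Over.mk (𝟙 S))))).left).p.obj a)
  exact Subsingleton.elim _ _

variable (G) in
/-- The trivial torsor, as a functor from the base category. -/
noncomputable def trivSec : selfOver (Over S) ⥤ᵇ BG G :=
  BasedFunctor.comp baseEquiv (can (G := G) (aX := trivGAction G))

theorem repByAlgSpWith_trivSec (P : MorphismProperty (Sp S)) [P.IsStableUnderBaseChange]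
    (hG : IsAlgSpace G.left) (hloc : IsLocalOnBase IsFppfCover P) (hP : P G.hom) :
    RepByAlgSpWith P (trivSec G) := by
  obtain ⟨α⟩ : Nonempty (BasedFunctor.comp (toSelf (ofSp (𝟙_ (Over (y (Over.mk (𝟙 S))))).left)) baseEquiv ≅
      BasedFunctor.id _) := nonempty_iso_of_sec fun a => by
    haveI := subsingleton_sec (S := S) ((ofSp (𝟙_ (Over (y (Over.mk (𝟙 S))))).left).p.obj a)
    exact Subsingleton.elim _ _
  exact (repByAlgSpWith_square_iff (f := trivSec G) (f' := can (G := G) (aX := trivGAction G))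
    (b := BasedFunctor.id _) isEquivOver_toSelf_base (isEquivOver_id _) (whiskerRightIso' α.symm (can (G := G) (aX := trivGAction G))) P).mpr
    (repByAlgSpWith_can_of_isLocalOnBase (IsAlgSpace.yon_obj _) hG P hloc
      fun _ b => MorphismProperty.of_isPullback (isPullback_trivial b) hP)

/-- The identity point. -/
abbrev idPt (V : Over S) : (ofSch V).obj := (ofOverCat V).obj (Over.mk (𝟙 V))

theorem nonempty_iso_ofSch {𝒳 : BasedCategory.{u + 1, u + 2} (Over S)} [IsFibGrpd 𝒳.p] {V : Over S}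
    (Φ Ψ : ofSch V ⥤ᵇ 𝒳) (e : Φ.obj (idPt V) ≅ Ψ.obj (idPt V)) (he : 𝒳.p.IsHomLift (𝟙 V) e.hom) :
    Nonempty (Φ ≅ Ψ) := by
  obtain ⟨i⟩ := nonempty_iso_of_vert (BasedFunctor.comp (ofOverCat V) Φ) (BasedFunctor.comp (ofOverCat V) Ψ) e he
  exact ⟨whiskerLeftIso' (toOverCat V) i⟩

/-- Locally every torsor is trivial. -/
theorem exists_triv {U : Over S} (w : ofSch U ⥤ᵇ BG G) (z : U.left) :
    ∃ (V : Over S) (c : V ⟶ U), Flat c.left ∧ LocallyOfFinitePresentation c.left ∧ z ∈ Set.range c.left ∧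
      Nonempty (BasedFunctor.comp (Stk.ofPshMap (ym c).hom) w ≅ BasedFunctor.comp (toSelf (ofSch V)) (trivSec G)) := by
  haveI : IsFibGrpd (BG G).p := isFibGrpd_spQuotSt
  let A : SpQuotObj Scheme.fppfPrecoverage G (trivGAction G) := w.obj (idPt U)
  have hU : A.base = U := w.w_obj _
  obtain ⟨R, hR, hsec⟩ := A.loc
  obtain ⟨Z, f, hf, hflat, hlfp, hz⟩ := exists_points_cover (T := A.base) hR ((eqToHom hU.symm).left z)
  obtain ⟨q, hq⟩ := hsec f hf
  let V : Over S := Over.mk (f ≫ A.base.hom)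
  let c : V ⟶ U := Over.homMk f ≫ eqToHom hU
  refine ⟨V, c, ?_, ?_, ?_, ?_⟩
  · haveI := hflat
    exact inferInstanceAs (Flat (f ≫ (eqToHom hU).left))
  · haveI := hlfp
    exact inferInstanceAs (LocallyOfFinitePresentation (f ≫ (eqToHom hU).left))
  · obtain ⟨x, hx⟩ := hz
    refine ⟨x, (congrArg (eqToHom hU).left hx).trans ?_⟩
    rw [← Scheme.Hom.comp_apply, ← Over.comp_left, eqToHom_trans, eqToHom_refl]
    rfl
  · let x₀ : (ofSp (𝟙_ (Over (y (Over.mk (𝟙 S))))).left).obj := baseEquiv.obj V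
    obtain ⟨σ, ψ, -, hψb, -⟩ := exists_ψ A x₀ q ((AlgSp.J S).uliftYonedaEquiv.injective (@Subsingleton.elim _ (subsingleton_sec V) _ _))
    let o' := (BasedFunctor.comp (ofOverCat V) (Stk.ofPshMap (ym c).hom)).obj (Over.mk (𝟙 V))
    let m : o' ⟶ idPt U := ⟨c, ULift.ext _ _ ((Category.comp_id c).trans (Category.id_comp c).symm)⟩
    have hAv : (w.obj o').base = V := w.w_obj o'
    have hm : (w.map m).base = eqToHom hAv ≫ c ≫ eqToHom hU.symm :=
      CategoryTheory.Functor.congr_hom w.w m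
    have hg : eqToHom hAv ≫ ψ.base = (w.map m).base := by
      rw [hm, hψb]
      change _ = eqToHom hAv ≫ (Over.homMk f ≫ eqToHom hU) ≫ eqToHom hU.symm
      rw [Category.assoc, eqToHom_trans, eqToHom_refl, Category.comp_id, hq, base_ym]
    obtain ⟨χ, ⟨hχ, -⟩, -⟩ := existsUnique_fac (A' := can.obj x₀) ψ (w.map m) (eqToHom hAv) hg
    haveI h : (SpQuotObj.forget Scheme.fppfPrecoverage G (trivGAction G)).IsHomLift (𝟙 V) χ :=
      IsHomLift.of_fac' _ _ _ hAv rfl (show χ.base = _ by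
        rw [hχ, eqToHom_refl]
        exact ((congrArg (_ ≫ ·) (Category.id_comp (𝟙 V))).trans (Category.comp_id _)).symm)
    haveI := isIso_of_isHomLift (p := (BG G).p) (𝟙 V) χ
    exact nonempty_iso_ofSch _ _ (asIso χ) h

theorem isFibSetoid_fp_diag {Q : Sp S} (w : ofSp Q ⥤ᵇ fp (toSelf (BG G)) (toSelf (BG G))) :
    IsFibSetoid (fp w (diag (toSelf (BG G)))).p := by
  haveI : IsFibGrpd (BG G).p := isFibGrpd_spQuotSt
  haveI : IsFibGrpd (fp (toSelf (BG G)) (toSelf (BG G))).p := isFibGrpd_fp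
  haveI : IsFibGrpd (ofSp Q).p := Stk.isFibGrpd_ofPsh _
  haveI : IsFibGrpd (fp w (diag (toSelf (BG G)))).p := isFibGrpd_fp
  refine ⟨inferInstance, fun U a b => ⟨fun φ ψ => ?_⟩⟩
  haveI h1 := φ.2
  haveI h2 := ψ.2
  haveI := isHomLift_fst (𝟙 U) φ.1
  haveI := isHomLift_fst (𝟙 U) ψ.1
  have e₁ : φ.1.hom.fst = ψ.1.hom.fst := elt_hom_eq (𝟙 U) _ _
  have e₂ := φ.1.hom.w.symm.trans ((congrArg (fun t => w.map t ≫ b.1.obj.iso.hom) e₁).trans ψ.1.hom.w)
  rw [cancel_epi] at e₂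
  exact CategoryTheory.Functor.Fiber.hom_ext (fp_hom_ext e₁ (congrArg (fun t => t.hom.fst) e₂))

theorem small_fibClass_fp_diag {Q : Sp S} (w : ofSp Q ⥤ᵇ fp (toSelf (BG G)) (toSelf (BG G))) (T : Over S) :
    Small.{u + 1} (FibClass (fp w (diag (toSelf (BG G)))) T) := by
  haveI : IsFibGrpd (BG G).p := isFibGrpd_spQuotSt
  let β : (fp w (diag (toSelf (BG G)))).p.Fiber T →
      Σ s : Q.obj.obj (op T), ((w.obj ⟨T, s⟩).obj.fst ⟶ (w.obj ⟨T, s⟩).obj.snd) := by
    rintro ⟨⟨⟨⟨R, s⟩, C, i⟩, hi⟩, hR⟩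
    obtain rfl : R = T := hR
    exact ⟨s, (fstIso i).hom ≫ (sndIso i).inv⟩
  suffices key : ∀ ξ ξ', β ξ = β ξ' → Nonempty (ξ ≅ ξ') from
    small_of_injective (f := fun q => β (fibRep (fp w (diag (toSelf (BG G)))) q)) fun q q' h =>
      ((fibClass_fibRep _ q).symm.trans (Quotient.sound (key _ _ h))).trans (fibClass_fibRep _ q')
  intro ξ ξ' h
  obtain ⟨⟨⟨⟨R, s⟩, C, i⟩, hi⟩, hR⟩ := ξ
  obtain ⟨⟨⟨⟨R', s'⟩, C', i'⟩, hi'⟩, hR'⟩ := ξ'
  obtain rfl : R = T := hR
  obtain rfl : R' = R := hR'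
  obtain ⟨rfl, h⟩ := Sigma.mk.inj_iff.mp h
  replace h : (fstIso i).hom ≫ (sndIso i).inv = (fstIso i').hom ≫ (sndIso i').inv := eq_of_heq h
  let k : C ≅ C' := (fstIso i).symm ≪≫ fstIso i'
  have hk : (fstIso i).inv ≫ (fstIso i').hom = (sndIso i).inv ≫ (sndIso i').hom := by
    rw [Iso.inv_comp_eq, ← Category.assoc, h, Category.assoc, Iso.inv_hom_id, Category.comp_id]
  let e : (⟨⟨⟨R', s⟩, C, i⟩, hi⟩ : (fp w (diag (toSelf (BG G)))).obj) ≅ ⟨⟨⟨R', s⟩, C', i'⟩, hi'⟩ :=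
    fpIsoMk (Iso.refl _) k (by
      change w.map (𝟙 _) ≫ i'.hom = i.hom ≫ (diag (toSelf (BG G))).map k.hom
      rw [w.toFunctor.map_id]
      refine (Category.id_comp i'.hom).trans (fp_hom_ext ?_ ?_)
      · exact ((fstIso i).hom_inv_id_assoc (fstIso i').hom).symm
      · change (sndIso i').hom = (sndIso i).hom ≫ (fstIso i).inv ≫ (fstIso i').hom
        rw [hk, Iso.hom_inv_id_assoc])
  have he : (fp w (diag (toSelf (BG G)))).p.IsHomLift (𝟙 R') e.hom :=
    IsHomLift.of_fac' _ _ _ rfl rfl (by simp; rfl)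
  exact ⟨fiberIso (fp w (diag (toSelf (BG G)))).p e he⟩

/-- A category fibred in setoids with small sets of classes comes from a presheaf with small values. -/
theorem exists_ofPsh_equiv_small {𝒱 : BasedCategory.{u + 1, u + 2} (Over S)} (h : IsFibSetoid 𝒱.p)
    (hs : ∀ T, Small.{u + 1} (FibClass 𝒱 T)) :
    ∃ (P : (Over S)ᵒᵖ ⥤ Type (u + 1)) (e : Stk.ofPsh P ⥤ᵇ 𝒱), IsEquivOver e := by
  obtain ⟨P, e, he⟩ := exists_ofPsh_equiv h
  haveI := h.1
  have : ∀ T, Small.{u + 1} (P.obj T) := by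
    rintro ⟨T⟩
    haveI := hs T
    refine small_of_injective (f := fun s : P.obj (op T) =>
      fibClass 𝒱 (Functor.Fiber.mk (p := 𝒱.p) (a := e.obj ⟨T, s⟩) (e.w_obj _))) fun s s' hss => ?_
    obtain ⟨k⟩ := Quotient.exact hss
    obtain ⟨e', -, ⟨α⟩, -⟩ := exists_inverse he
    haveI h1 : (Stk.ofPsh P).p.IsHomLift (𝟙 T) (α.inv.toNatTrans.app ⟨T, s⟩) := α.inv.isHomLift' ⟨T, s⟩
    haveI h2 : (Stk.ofPsh P).p.IsHomLift (𝟙 T) (α.hom.toNatTrans.app ⟨T, s'⟩) := α.hom.isHomLift' ⟨T, s'⟩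
    haveI h3 : (Stk.ofPsh P).p.IsHomLift (𝟙 T) (e'.map k.hom.1) :=
      @BasedFunctor.preserves_isHomLift _ _ _ _ e' _ _ _ _ (𝟙 T) k.hom.1 k.hom.2
    haveI h4 : (Stk.ofPsh P).p.IsHomLift (𝟙 T) (e'.map k.hom.1 ≫ α.hom.toNatTrans.app ⟨T, s'⟩) :=
      @IsHomLift.comp_lift_id_right _ _ _ _ (Stk.ofPsh P).p _ _ _ _ _ (𝟙 T) _ h3 _ h2
    exact (sec_eq_of_vert _ (@IsHomLift.comp_lift_id_left _ _ _ _ (Stk.ofPsh P).p _ _ _ _ _ (𝟙 T) _ h4 _ h1)).symm
  let P' : (Over S)ᵒᵖ ⥤ Type (u + 1) :=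
    { obj := fun T => Shrink.{u + 1} (P.obj T)
      map := fun g => ↾(fun s => equivShrink _ (P.map g ((equivShrink _).symm s)))
      map_id := fun T => by ext s; simp
      map_comp := fun g g' => by ext s; simp }
  let Ψ : Stk.ofPsh P' ⥤ᵇ Stk.ofPsh P :=
    { toFunctor :=
      { obj := fun a => ⟨a.base, (equivShrink _).symm a.sec⟩
        map := fun {a b} φ => ⟨φ.hom, by
          have := congrArg (equivShrink _).symm φ.map_sec
          simpa [P'] using this⟩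
        map_id := fun a => Stk.EltObj.hom_ext rfl
        map_comp := fun φ φ' => Stk.EltObj.hom_ext rfl }
      w := rfl }
  haveI : Ψ.toFunctor.Faithful :=
    ⟨fun {a b φ φ'} hh => Stk.EltObj.hom_ext (congrArg (fun t : Ψ.obj a ⟶ Ψ.obj b => t.hom) hh)⟩
  haveI : Ψ.toFunctor.Full := ⟨fun {a b} φ => ⟨⟨φ.hom, (equivShrink _).symm.injective (by
    simpa [P'] using φ.map_sec)⟩, Stk.EltObj.hom_ext rfl⟩⟩
  have hΨ : IsEquivOver Ψ := isEquivOver_of_vertEssSurj _ fun z => by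
    have hobj : Ψ.obj ⟨z.base, equivShrink _ z.sec⟩ = z := by
      change (⟨z.base, (equivShrink _).symm (equivShrink _ z.sec)⟩ : Stk.EltObj P) = z
      rw [Equiv.symm_apply_apply]
    exact ⟨⟨z.base, equivShrink _ z.sec⟩, eqToIso hobj, IsHomLift.eqToHom_codomain_lift_id hobj rfl⟩
  exact ⟨P', BasedFunctor.comp Ψ e, isEquivOver_comp hΨ he⟩

theorem repByAlgSpWith_diag (P : MorphismProperty (Sp S)) [P.IsStableUnderBaseChange]
    (hG : IsAlgSpace G.left) (hloc : IsLocalOnBase IsFppfCover P) (hP : P G.hom) :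
    RepByAlgSpWith P (diag (toSelf (BG G))) := by
  rw [repByAlgSpWith_iff]
  intro U w
  have hs := (repByAlgSpWith_iff P _).mp (repByAlgSpWith_trivSec P hG hloc hP)
  have hBG : Stk.IsStack (AlgSp.J S) (BG G) := isStack_spQuotSt
  haveI : IsFibGrpd (BG G).p := hBG.1
  let 𝒵 := fp w (diag (toSelf (BG G)))
  have hZ : Stk.IsStack (AlgSp.J S) 𝒵 := isStack_fp (isStack_ofSp _) hBG (isPrestack_of_isStack
    (isStack_fp hBG hBG (isPrestack_of_isStack (isPrestack_J_of_isAlgStack isAlgStack_selfOver))))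
  obtain ⟨Pz, k, hk⟩ := exists_ofPsh_equiv_small (isFibSetoid_fp_diag w) (small_fibClass_fp_diag w)
  obtain ⟨απ⟩ := nonempty_iso_mapOf (BasedFunctor.comp k (FibCat.fpFst w (diag (toSelf (BG G)))))
  have hsh : Presheaf.IsSheaf (AlgSp.J S) Pz :=
    (isSheaf_iff_isSheaf_of_type _ _).mpr (isStack_ofPsh_iff.mp ((isStack_iff_of_isEquivOver hk).mpr hZ))
  let H : Sp S := ⟨Pz, hsh⟩
  let π : H ⟶ y U := ObjectProperty.homMk (mapOf (BasedFunctor.comp k (FibCat.fpFst w (diag (toSelf (BG G))))))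
  have hπ : Along w (diag (toSelf (BG G))) π.hom := ⟨k, hk, ⟨απ⟩⟩
  choose V₁ c₁ hf₁ hp₁ hz₁ hi₁ using exists_triv (BasedFunctor.comp w (FibCat.fpFst _ _))
  choose V₂ c₂ hf₂ hp₂ hz₂ hi₂ using exists_triv (BasedFunctor.comp w (FibCat.fpSnd _ _))
  have hV : ∀ z : U.left, ∃ (V : Over S) (c : V ⟶ U), Flat c.left ∧ LocallyOfFinitePresentation c.left ∧
      z ∈ Set.range c.left ∧ IsAlgSpace (pullback π (ym c)) ∧ P (pullback.snd π (ym c)) := fun z => by
    let V : Over S := Over.mk (pullback.fst (c₁ z).left (c₂ z).left ≫ (V₁ z).hom)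
    let p₂ : V ⟶ V₂ z := Over.homMk (pullback.snd (c₁ z).left (c₂ z).left) (by
      change _ = _ ≫ (V₁ z).hom
      rw [← Over.w (c₁ z), ← Over.w (c₂ z), pullback.condition_assoc])
    let c : V ⟶ U := p₂ ≫ c₂ z
    refine ⟨V, c, ?_, ?_, ?_, ?_⟩
    · haveI := hf₁ z
      haveI := hf₂ z
      exact inferInstanceAs (Flat (pullback.snd (c₁ z).left (c₂ z).left ≫ (c₂ z).left))
    · haveI := hp₁ z
      haveI := hp₂ z
      exact inferInstanceAs (LocallyOfFinitePresentation (pullback.snd (c₁ z).left (c₂ z).left ≫ (c₂ z).left))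
    · obtain ⟨a, ha⟩ := hz₁ z
      obtain ⟨b, hb⟩ := hz₂ z
      obtain ⟨x, -, hx⟩ := Scheme.Pullback.exists_preimage_pullback a b (ha.trans hb.symm)
      exact ⟨x, (congrArg (c₂ z).left hx).trans hb⟩
    · obtain ⟨i₂⟩ := hi₂ z
      let w' := BasedFunctor.comp (Stk.ofPshMap (ym c).hom) w
      obtain ⟨j⟩ := nonempty_iso_selfOver (BasedFunctor.comp (Stk.ofPshMap (ym p₂).hom) (toSelf (ofSch (V₂ z))))
        (toSelf (ofSch V))
      have hc : Stk.ofPshMap (ym c).hom = BasedFunctor.comp (Stk.ofPshMap (ym p₂).hom) (Stk.ofPshMap (ym (c₂ z)).hom) := by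
        rw [← AlgStLib.ofPshMap_comp, ← ObjectProperty.FullSubcategory.comp_hom, ← ym_comp]
      have i : BasedFunctor.comp w' (FibCat.fpSnd _ _) ≅ BasedFunctor.comp (toSelf (ofSch V)) (trivSec G) :=
        eqToIso (congrArg (fun Φ => BasedFunctor.comp (BasedFunctor.comp Φ w) (FibCat.fpSnd _ _)) hc) ≪≫
          whiskerLeftIso' (Stk.ofPshMap (ym p₂).hom) i₂ ≪≫ whiskerRightIso' j (trivSec G)
      obtain ⟨K, a, hK, ha, hPa⟩ := hs V (BasedFunctor.comp w' (FibCat.fpFst _ _))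
      have sq := IsPullback.of_hasPullback π (ym c)
      obtain ⟨e, he⟩ := along_hom_unique (hπ.of_isPullback (isPullback_sheaf sq))
        (along_diag_of_section (trivSec G) w' i a.hom ha)
      exact ⟨hK.of_iso e.symm, (P.cancel_left_of_respectsIso e.hom a).mpr hPa |> fun h => he ▸ h⟩
  choose V c hf hp hz hVs hVP using hV
  have hcov := isFppfCover_yon c hf hp fun z => ⟨z, hz z⟩
  have hH : IsAlgSpace H := Groth.Agent.S10138.result S ⟨y U, IsAlgSpace.yon_obj U⟩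
    (fun z => ⟨y (V z), IsAlgSpace.yon_obj (V z)⟩) (fun z => ym (c z)) hcov H π
    fun z Q fst snd hQ => (hVs z).of_iso ((IsPullback.of_hasPullback π (ym (c z))).isoIsPullback _ _ hQ)
  exact ⟨H, π, hH, hπ, (hloc _ (fun z => ym (c z)) (IsAlgSpace.yon_obj U) (fun _ => IsAlgSpace.yon_obj _) hcov π hH _
    (fun z => pullback.snd π (ym (c z))) (fun z => pullback.fst π (ym (c z))) hVs
    fun z => IsPullback.of_hasPullback π (ym (c z))).mpr hVP⟩

end SpTorsLib
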