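import Groth.Agent.SpTorsLib.Space
import Groth.Agent.FibLib.Fp

/-!
# The canonical map `X ⟶ [X/G]` is representable by the torsors
-/

set_option autoImplicit false
set_option backward.isDefEq.respectTransparency false
set_option backward.isDefEq.respectTransparency.types false

universe u

open CategoryTheory CategoryTheory.Limits MonoidalCategory CartesianMonoidalCategory AlgebraicGeometry Opposite AlgSp AlgSt
  FibCat FibLib MonObj

namespace SpTorsLib

variable {S : Scheme.{u}} {B : Sp S} {G : Over B} [GrpObj G] {X : Over B} {aX : GAction G X}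

/-- The unit section of a trivial torsor. -/
noncomputable def unitSec (Y : Over B) : Y ⟶ G ⊗ Y := lift (toUnit Y ≫ η[G]) (𝟙 Y)

theorem unitSec_snd (Y : Over B) : unitSec (G := G) Y ≫ snd G Y = 𝟙 Y := lift_snd _ _

theorem unitSec_act {P Y : Over B} (a : GAction G P) (σ : Y ⟶ P) :
    unitSec Y ≫ (G ◁ σ) ≫ a.act = σ := by
  have h : unitSec Y ≫ (G ◁ σ) = σ ≫ (λ_ P).inv ≫ (η[G] ▷ P) := by
    apply CartesianMonoidalCategory.hom_ext
    · simp only [unitSec, Category.assoc, whiskerLeft_fst, lift_fst, whiskerRight_fst, leftUnitor_inv_fst_assoc]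
      rw [← Category.assoc σ, toUnit_unique (σ ≫ toUnit P) (toUnit Y)]
    · simp [unitSec]
  rw [← Category.assoc, h, Category.assoc, Category.assoc, a.one_act, Iso.inv_hom_id, Category.comp_id]

theorem spLeftMul_comp {P Y : Over B} (a : GAction G P) (σ : Y ⟶ P) :
    (spLeftMul G Y).act ≫ (G ◁ σ) ≫ a.act = (G ◁ ((G ◁ σ) ≫ a.act)) ≫ a.act := by
  have h : (spLeftMul G Y).act ≫ (G ◁ σ) = (G ◁ (G ◁ σ)) ≫ (α_ G G P).inv ≫ (μ[G] ▷ P) := by
    have hμ : fst (G ⊗ G) P ≫ μ[G] = (fst _ _ ≫ fst G G) * (fst _ _ ≫ snd G G) := by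
      rw [Hom.mul_def, ← comp_lift, lift_fst_snd, Category.comp_id]
    apply CartesianMonoidalCategory.hom_ext
    · simp only [spLeftMul, Category.assoc, lift_fst, lift_snd, lift_fst_assoc, lift_snd_assoc, comp_lift, comp_mul, whiskerLeft_fst, whiskerLeft_snd, whiskerLeft_fst_assoc, whiskerLeft_snd_assoc, whiskerRight_fst, whiskerRight_snd, whiskerRight_fst_assoc, whiskerRight_snd_assoc, associator_inv_fst_fst, associator_inv_fst_snd, associator_inv_snd, associator_inv_fst_fst_assoc, associator_inv_fst_snd_assoc, associator_inv_snd_assoc, hμ]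
    · simp only [spLeftMul, Category.assoc, lift_fst, lift_snd, lift_fst_assoc, lift_snd_assoc, comp_lift, comp_mul, whiskerLeft_fst, whiskerLeft_snd, whiskerLeft_fst_assoc, whiskerLeft_snd_assoc, whiskerRight_fst, whiskerRight_snd, whiskerRight_fst_assoc, whiskerRight_snd_assoc, associator_inv_fst_fst, associator_inv_fst_snd, associator_inv_snd, associator_inv_fst_fst_assoc, associator_inv_fst_snd_assoc, associator_inv_snd_assoc]
  have hm : (G ◁ a.act) ≫ a.act = (α_ G G P).inv ≫ (μ[G] ▷ P) ≫ a.act := by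
    rw [a.mul_act, Iso.inv_hom_id_assoc]
  rw [MonoidalCategory.whiskerLeft_comp, Category.assoc, hm, reassoc_of% h]

theorem unitSec_mul (Y : Over B) : (G ◁ unitSec Y) ≫ (spLeftMul G Y).act = 𝟙 (G ⊗ Y) := by
  apply CartesianMonoidalCategory.hom_ext
  · simp only [spLeftMul, unitSec, Category.assoc, lift_fst, comp_mul, whiskerLeft_fst, whiskerLeft_snd_assoc,
      lift_fst, Category.id_comp]
    rw [← Category.assoc, toUnit_unique (snd G Y ≫ toUnit Y) (toUnit _), ← Hom.one_def, _root_.mul_one]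
  · simp only [spLeftMul, unitSec, Category.assoc, lift_snd, whiskerLeft_snd_assoc, Category.comp_id, Category.id_comp]

/-- The canonical functor. -/
noncomputable abbrev can : ofSp X.left ⥤ᵇ SpQuotSt Scheme.fppfPrecoverage G aX :=
  spQuotMap Scheme.fppfPrecoverage G aX

/-- The section behind a point, as a morphism over `B`. -/
noncomputable abbrev ptOver {A : SpQuotObj Scheme.fppfPrecoverage G aX} {T : Over S} (q : y T ⟶ A.P.left) :
    Over.mk (q ≫ A.P.hom) ⟶ A.P :=
  Over.homMk q rfl

theorem sec_of_secYon {Y : Over B} {a a' : (ofSp Y.left).obj} (f : a.base ⟶ a'.base)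
    (h : ym f ≫ secYon a' = secYon a) : Y.left.obj.map f.op a'.sec = a.sec := by
  have e := congrArg (AlgSp.J S).uliftYonedaEquiv h
  rwa [← GrothendieckTopology.uliftYonedaEquiv_naturality, Equiv.apply_symm_apply, Equiv.apply_symm_apply] at e

theorem eltHom_eqToHom {x x' : (ofSp X.left).obj} (h : x = x') :
    (eqToHom h).hom = eqToHom (congrArg Stk.EltObj.base h) := by
  subst h; rfl

/-- The image in `X` of a point of a torsor. -/
noncomputable def imgX (A : SpQuotObj Scheme.fppfPrecoverage G aX) (a : (ofSp A.P.left).obj) :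
    (ofSp X.left).obj :=
  ⟨a.base, (AlgSp.J S).uliftYonedaEquiv (secYon a ≫ A.φ.left)⟩

theorem secYon_imgX (A : SpQuotObj Scheme.fppfPrecoverage G aX) (a : (ofSp A.P.left).obj) :
    secYon (imgX A a) = secYon a ≫ A.φ.left :=
  Equiv.symm_apply_apply _ _

theorem exists_ψ (A : SpQuotObj Scheme.fppfPrecoverage G aX) (x : (ofSp X.left).obj)
    (q : y x.base ⟶ A.P.left) (hq : q ≫ A.φ.left = secYon x) :
    ∃ (σ : Over.mk (secYon x ≫ X.hom) ⟶ A.P) (ψ : can.obj x ⟶ A), σ.left = q ∧
      ψ.base = base (q ≫ A.π.left) ∧ ψ.top = (G ◁ σ) ≫ A.act.act := by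
  have hb : q ≫ A.P.hom = secYon x ≫ X.hom := by rw [← hq, Category.assoc, Over.w]
  let σ : Over.mk (secYon x ≫ X.hom) ⟶ A.P := Over.homMk q hb
  have wb : ym (base (q ≫ A.π.left)) ≫ A.b = secYon x ≫ X.hom := by
    rw [ym_base, Category.assoc, ← hb]
    exact congrArg (q ≫ ·) (Over.w A.π)
  have e : σ ≫ A.π = bHom (base (q ≫ A.π.left)) wb := over_hom_ext (ym_base _).symm
  have hcart : IsPullback ((G ◁ σ) ≫ A.act.act) (snd G _) A.π (bHom (base (q ≫ A.π.left)) wb) := by
    have h := (isPullback_whiskerLeft' (G := G) σ).paste_horiz A.cart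
    rwa [e] at h
  have hσφ : σ ≫ A.φ = secOver x := over_hom_ext hq
  refine ⟨σ, { base := base (q ≫ A.π.left), wb := wb, top := (G ◁ σ) ≫ A.act.act,
               eqv := spLeftMul_comp A.act σ, cart := hcart, wφ := ?_ }, rfl, rfl, rfl⟩
  change ((G ◁ σ) ≫ A.act.act) ≫ A.φ = (G ◁ secOver x) ≫ aX.act
  rw [Category.assoc, A.eqv, ← MonoidalCategory.whiskerLeft_comp_assoc, hσφ]

/-- The morphism from the trivial torsor given by a point. -/
noncomputable def ψ (A : SpQuotObj Scheme.fppfPrecoverage G aX) (a : (ofSp A.P.left).obj) :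
    can.obj (imgX A a) ⟶ A :=
  (exists_ψ A (imgX A a) (secYon a) (secYon_imgX A a).symm).choose_spec.choose

theorem ψ_base (A : SpQuotObj Scheme.fppfPrecoverage G aX) (a : (ofSp A.P.left).obj) :
    (ψ A a).base = base (secYon a ≫ A.π.left) :=
  (exists_ψ A (imgX A a) (secYon a) (secYon_imgX A a).symm).choose_spec.choose_spec.2.1

theorem unitSec_ψ (A : SpQuotObj Scheme.fppfPrecoverage G aX) (a : (ofSp A.P.left).obj) :
    (unitSec (G := G) (Over.mk (secYon (imgX A a) ≫ X.hom))).left ≫ (ψ A a).top.left = secYon a := by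
  obtain ⟨h1, -, h3⟩ := (exists_ψ A (imgX A a) (secYon a) (secYon_imgX A a).symm).choose_spec.choose_spec
  rw [ψ, h3, ← Over.comp_left, unitSec_act, h1]

theorem top_eq_of_unitSec {A : SpQuotObj Scheme.fppfPrecoverage G aX} {x : (ofSp X.left).obj} (φ : can.obj x ⟶ A) :
    φ.top = (G ◁ (unitSec (Over.mk (secYon x ≫ X.hom)) ≫ φ.top)) ≫ A.act.act := by
  rw [MonoidalCategory.whiskerLeft_comp, Category.assoc, ← φ.eqv]
  change φ.top = (G ◁ _) ≫ (spLeftMul G _).act ≫ φ.top
  exact ((congrArg (· ≫ φ.top) (unitSec_mul _)).trans (Category.id_comp _)).symm.trans (Category.assoc _ _ _)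

theorem can_hom_ext {A : SpQuotObj Scheme.fppfPrecoverage G aX} {x : (ofSp X.left).obj} {φ φ' : can.obj x ⟶ A}
    (h : (unitSec (G := G) (Over.mk (secYon x ≫ X.hom))).left ≫ φ.top.left =
      (unitSec (G := G) (Over.mk (secYon x ≫ X.hom))).left ≫ φ'.top.left) : φ = φ' := by
  have hb : ∀ χ : can.obj x ⟶ A, ym χ.base =
      ((unitSec (G := G) (Over.mk (secYon x ≫ X.hom))).left ≫ χ.top.left) ≫ A.π.left := fun χ => by
    rw [Category.assoc, (isPullback_left χ.cart).w, ← Category.assoc]
    change _ = (_ ≫ (snd G (Over.mk (secYon x ≫ X.hom))).left) ≫ _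
    rw [← Over.comp_left, unitSec_snd]
    exact (Category.id_comp _).symm
  refine SpQuotObj.hom_ext (ym_injective (by rw [hb, hb, h])) ?_
  rw [top_eq_of_unitSec φ, top_eq_of_unitSec φ', show unitSec (Over.mk (secYon x ≫ X.hom)) ≫ φ.top =
    unitSec (Over.mk (secYon x ≫ X.hom)) ≫ φ'.top from over_hom_ext h]

theorem can_map_unitSec {x x' : (ofSp X.left).obj} (m : x ⟶ x') :
    (unitSec (G := G) (Over.mk (secYon x ≫ X.hom))).left ≫ ((can (aX := aX)).map m).top.left =
      ym m.hom ≫ (unitSec (G := G) (Over.mk (secYon x' ≫ X.hom))).left := by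
  have w : ym m.hom ≫ secYon x' ≫ X.hom = secYon x ≫ X.hom := by rw [← Category.assoc, secYon_comp]
  have h : unitSec (Over.mk (secYon x ≫ X.hom)) ≫ (G ◁ bHom m.hom w) =
      bHom m.hom w ≫ unitSec (G := G) (Over.mk (secYon x' ≫ X.hom)) := by
    apply CartesianMonoidalCategory.hom_ext
    · simp only [unitSec, Category.assoc, whiskerLeft_fst, lift_fst]
      rw [← Category.assoc (bHom m.hom w), toUnit_unique (bHom m.hom w ≫ toUnit _) (toUnit _)]
    · simp [unitSec]
  exact congrArg (fun k : _ ⟶ _ => Over.Hom.left k) h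

variable {U : Over S} (F : overCat U ⥤ᵇ SpQuotSt Scheme.fppfPrecoverage G aX)

/-- The torsor of a test object. -/
noncomputable abbrev tors : SpQuotObj Scheme.fppfPrecoverage G aX := F.obj (Over.mk (𝟙 U))

theorem tors_base : (tors F).base = U := F.w_obj _

/-- The structure morphism to `U` of a point of the torsor. -/
noncomputable def ptU (a : (ofSp (tors F).P.left).obj) : a.base ⟶ U :=
  base (secYon a ≫ (tors F).π.left) ≫ eqToHom (tors_base F)

theorem map_toId_base (v : Over U) :
    (F.map (toId v)).base = eqToHom (F.w_obj v) ≫ v.hom ≫ eqToHom (tors_base F).symm :=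
  CategoryTheory.Functor.congr_hom F.w (toId v)

theorem exists_χ (a : (ofSp (tors F).P.left).obj) :
    ∃ χ : F.obj (Over.mk (ptU F a)) ≅ can.obj (imgX (tors F) a),
      (SpQuotObj.forget Scheme.fppfPrecoverage G aX).IsHomLift (𝟙 a.base) χ.hom ∧
        χ.hom ≫ ψ (tors F) a = F.map (toId (Over.mk (ptU F a))) := by
  have w : eqToHom (F.w_obj (Over.mk (ptU F a))) ≫ (ψ (tors F) a).base =
      (F.map (toId (Over.mk (ptU F a)))).base := by
    rw [map_toId_base, ψ_base]
    change _ = _ ≫ (base _ ≫ eqToHom _) ≫ _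
    rw [Category.assoc, eqToHom_trans, eqToHom_refl, Category.comp_id]
  obtain ⟨χ, ⟨hχ, hχf⟩, -⟩ := existsUnique_fac (A' := can.obj (imgX (tors F) a)) (ψ (tors F) a)
    (F.map (toId (Over.mk (ptU F a)))) (eqToHom (F.w_obj (Over.mk (ptU F a)))) w
  haveI : IsFibGrpd (SpQuotObj.forget Scheme.fppfPrecoverage G aX) := isFibGrpd_spQuotSt
  haveI h : (SpQuotObj.forget Scheme.fppfPrecoverage G aX).IsHomLift (𝟙 a.base) χ :=
    IsHomLift.of_fac' _ _ _ (F.w_obj (Over.mk (ptU F a))) rfl
      (show χ.base = _ by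
        rw [hχ, eqToHom_refl]
        exact ((congrArg (_ ≫ ·) (Category.id_comp (𝟙 a.base))).trans (Category.comp_id _)).symm)
  haveI := isIso_of_isHomLift (p := SpQuotObj.forget Scheme.fppfPrecoverage G aX) (𝟙 a.base) χ
  exact ⟨asIso χ, h, hχf⟩

/-- The identification of a pullback of the torsor with a trivial torsor. -/
noncomputable def χ (a : (ofSp (tors F).P.left).obj) :
    F.obj (Over.mk (ptU F a)) ≅ can.obj (imgX (tors F) a) := (exists_χ F a).choose

theorem χ_lift (a : (ofSp (tors F).P.left).obj) :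
    (SpQuotObj.forget Scheme.fppfPrecoverage G aX).IsHomLift (𝟙 a.base) (χ F a).hom :=
  (exists_χ F a).choose_spec.1

theorem χ_fac (a : (ofSp (tors F).P.left).obj) :
    (χ F a).hom ≫ ψ (tors F) a = F.map (toId (Over.mk (ptU F a))) :=
  (exists_χ F a).choose_spec.2

theorem ptU_comp {a a' : (ofSp (tors F).P.left).obj} (m : a ⟶ a') : m.hom ≫ ptU F a' = ptU F a := by
  change m.hom ≫ base _ ≫ _ = base _ ≫ _
  rw [← Category.assoc, ← base_precomp, ← Category.assoc, secYon_comp]

theorem imgX_sec {a a' : (ofSp (tors F).P.left).obj} (m : a ⟶ a') :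
    X.left.obj.map m.hom.op (imgX (tors F) a').sec = (imgX (tors F) a).sec := by
  change X.left.obj.map m.hom.op ((AlgSp.J S).uliftYonedaEquiv _) = (AlgSp.J S).uliftYonedaEquiv _
  rw [GrothendieckTopology.uliftYonedaEquiv_naturality, ← Category.assoc, secYon_comp]

/-- The induced morphism of images. -/
noncomputable def imgMap {a a' : (ofSp (tors F).P.left).obj} (m : a ⟶ a') :
    imgX (tors F) a ⟶ imgX (tors F) a' := ⟨m.hom, imgX_sec F m⟩

theorem can_map_ψ {a a' : (ofSp (tors F).P.left).obj} (m : a ⟶ a') :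
    can.map (imgMap F m) ≫ ψ (tors F) a' = ψ (tors F) a := by
  refine can_hom_ext ?_
  rw [unitSec_ψ]
  change (unitSec _).left ≫ ((can.map (imgMap F m)).top ≫ (ψ (tors F) a').top).left = _
  rw [Over.comp_left, ← Category.assoc, can_map_unitSec, Category.assoc, unitSec_ψ]
  exact secYon_comp m

/-- The functor from the points of the torsor to the fibre product. -/
noncomputable def comparison : ofSp (tors F).P.left ⥤ᵇ fp F (can (aX := aX)) where
  toFunctor :=
    { obj := fun a => fpObj (Over.mk (ptU F a)) (imgX (tors F) a) (χ F a) (χ_lift F a)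
      map := fun {a a'} m => fpHom (Over.homMk m.hom (ptU_comp F m)) (imgMap F m) (by
        let mo : Over.mk (ptU F a) ⟶ Over.mk (ptU F a') := Over.homMk m.hom (ptU_comp F m)
        change F.map mo ≫ (χ F a').hom = (χ F a).hom ≫ can.map (imgMap F m)
        haveI : IsFibGrpd (SpQuotSt Scheme.fppfPrecoverage G aX).p := isFibGrpd_spQuotSt
        have hψ := ψ_base (tors F) a'
        obtain ⟨z, -, hu⟩ := existsUnique_fac (ψ (tors F) a') (F.map (toId (Over.mk (ptU F a))))
          (F.map mo ≫ (χ F a').hom).base (by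
            have := congrArg (fun k => k.base) (show (F.map mo ≫ (χ F a').hom) ≫ ψ (tors F) a' =
              F.map (toId (Over.mk (ptU F a))) by
                rw [Category.assoc, χ_fac, ← F.toFunctor.map_comp]
                exact congrArg F.map (comp_toId _))
            exact this)
        refine (hu _ ⟨rfl, ?_⟩).trans (hu _ ⟨?_, ?_⟩).symm
        · rw [Category.assoc, χ_fac, ← F.toFunctor.map_comp]
          exact congrArg F.map (comp_toId _)
        · haveI := χ_lift F a
          haveI := χ_lift F a'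
          have h1 : (χ F a).hom.base = eqToHom (F.w_obj (Over.mk (ptU F a))) :=
            (IsHomLift.fac' (SpQuotObj.forget Scheme.fppfPrecoverage G aX) (𝟙 a.base) (χ F a).hom).trans (by simp)
          have h2 : (χ F a').hom.base = eqToHom (F.w_obj (Over.mk (ptU F a'))) :=
            (IsHomLift.fac' (SpQuotObj.forget Scheme.fppfPrecoverage G aX) (𝟙 a'.base) (χ F a').hom).trans (by simp)
          change (χ F a).hom.base ≫ m.hom = (F.map mo).base ≫ (χ F a').hom.base
          rw [h1, h2, show (F.map mo).base = eqToHom (F.w_obj (Over.mk (ptU F a))) ≫ m.hom ≫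
            eqToHom (F.w_obj (Over.mk (ptU F a'))).symm from CategoryTheory.Functor.congr_hom F.w mo]
          simp only [Category.assoc, eqToHom_trans, eqToHom_refl]
          exact congrArg (_ ≫ ·) (Category.comp_id m.hom).symm
        · rw [Category.assoc, can_map_ψ, χ_fac])
      map_id := fun a => fp_hom_ext (Over.OverMorphism.ext rfl) (Stk.EltObj.hom_ext rfl)
      map_comp := fun m n => fp_hom_ext (Over.OverMorphism.ext rfl) (Stk.EltObj.hom_ext rfl) }
  w := rfl

instance : (comparison F).toFunctor.Faithful :=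
  ⟨fun {a a' m n} h => Stk.EltObj.hom_ext (congrArg (fun k => k.hom.fst.left) h)⟩

instance : (comparison F).toFunctor.Full := ⟨fun {a a'} k => by
  have hx : (k.hom.fst.left : a.base ⟶ a'.base) = k.hom.snd.hom := by
    haveI : (overCat U).p.IsHomLift k.hom.fst.left k.hom.fst := IsHomLift.map (Over.forget U) k.hom.fst
    haveI : (fp F (can (aX := aX))).p.IsHomLift k.hom.fst.left k := IsHomLift.map (fp F (can (aX := aX))).p k
    haveI := isHomLift_snd (F := F) (G := can (aX := aX)) k.hom.fst.left k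
    exact ((IsHomLift.fac' (Stk.EltObj.forget X.left.obj) k.hom.fst.left k.hom.snd).trans
      ((congrArg (_ ≫ ·) (Category.comp_id _)).trans (Category.id_comp _))).symm
  have key : can.map k.hom.snd ≫ ψ (tors F) a' = ψ (tors F) a := by
    rw [← cancel_epi (χ F a).hom, ← Category.assoc, χ_fac]
    have h := k.hom.w
    change F.map k.hom.fst ≫ (χ F a').hom = (χ F a).hom ≫ can.map k.hom.snd at h
    rw [← h, Category.assoc, χ_fac, ← F.toFunctor.map_comp]
    exact congrArg F.map (comp_toId _)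
  have hm : ym k.hom.snd.hom ≫ secYon a' = secYon a := by
    have h2 := congrArg (fun φ : can.obj (imgX (tors F) a) ⟶ tors F =>
      (unitSec (G := G) (Over.mk (secYon (imgX (tors F) a) ≫ X.hom))).left ≫ φ.top.left) key
    refine Eq.trans ?_ (h2.trans (unitSec_ψ _ _))
    change _ = (unitSec _).left ≫ ((can.map k.hom.snd).top ≫ (ψ (tors F) a').top).left
    rw [Over.comp_left, ← Category.assoc, can_map_unitSec, Category.assoc]
    exact congrArg (ym k.hom.snd.hom ≫ ·) (unitSec_ψ (tors F) a').symm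
  exact ⟨⟨k.hom.snd.hom, sec_of_secYon _ hm⟩, fp_hom_ext (Over.OverMorphism.ext hx.symm) (Stk.EltObj.hom_ext rfl)⟩⟩

theorem vertEssSurj_comparison : VertEssSurj (comparison F) := by
  rintro ⟨⟨v, x, i⟩, hi⟩
  have hx : x.base = v.left := obj_snd_eq (F := F) (G := can (aX := aX)) ⟨⟨v, x, i⟩, hi⟩
  obtain ⟨T, sec⟩ := x
  obtain rfl : T = v.left := hx
  haveI hil : (SpQuotObj.forget Scheme.fppfPrecoverage G aX).IsHomLift (𝟙 v.left) i.hom := hi
  let ξ : can.obj ⟨v.left, sec⟩ ⟶ tors F := i.inv ≫ F.map (toId v)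
  let q : y v.left ⟶ (tors F).P.left :=
    (unitSec (G := G) (Over.mk (secYon (X := X) ⟨v.left, sec⟩ ≫ X.hom))).left ≫ ξ.top.left
  let a : (ofSp (tors F).P.left).obj := ⟨v.left, (AlgSp.J S).uliftYonedaEquiv q⟩
  have haq : secYon a = q := Equiv.symm_apply_apply _ _
  have hsec : q ≫ (tors F).φ.left = secYon (X := X) ⟨v.left, sec⟩ := by
    rw [Category.assoc, ← Over.comp_left, ξ.wφ]
    change (unitSec _).left ≫ ((G ◁ secOver _) ≫ aX.act).left = _
    rw [← Over.comp_left, unitSec_act]
    rfl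
  have himg : imgX (tors F) a = ⟨v.left, sec⟩ := by
    change (⟨v.left, _⟩ : (ofSp X.left).obj) = ⟨v.left, sec⟩
    congr 1
    rw [haq, hsec]
    exact Equiv.apply_symm_apply _ _
  have hξb : ym ξ.base = q ≫ (tors F).π.left := by
    rw [Category.assoc, (isPullback_left ξ.cart).w, ← Category.assoc]
    change _ = (_ ≫ (snd G _).left) ≫ _
    rw [← Over.comp_left, unitSec_snd]
    exact (Category.id_comp _).symm
  have hib : i.hom.base = eqToHom (F.w_obj v) :=
    (IsHomLift.fac' (SpQuotObj.forget Scheme.fppfPrecoverage G aX) (𝟙 v.left) i.hom).trans (by simp)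
  have hpt : ptU F a = v.hom := by
    have h1 : i.hom.base ≫ ξ.base = (F.map (toId v)).base := by
      rw [← SpQuotObj.comp_base, ← Category.assoc, i.hom_inv_id, Category.id_comp]
    rw [map_toId_base, hib, cancel_epi] at h1
    rw [ptU, haq, ← hξb, base_ym, h1, Category.assoc, eqToHom_trans, eqToHom_refl, Category.comp_id]
  refine ⟨a, fpIsoMk (Over.isoMk (Iso.refl _) (by change 𝟙 v.left ≫ v.hom = ptU F a; exact (Category.id_comp _).trans hpt.symm))
    (eqToIso himg) ?_, ?_⟩
  · let mo : Over.mk (ptU F a) ⟶ v := Over.homMk (𝟙 v.left) ((Category.id_comp _).trans hpt.symm)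
    change F.map mo ≫ i.hom = (χ F a).hom ≫ can.map (eqToHom himg)
    rw [← cancel_mono i.inv, Category.assoc, i.hom_inv_id, Category.comp_id]
    have e : ψ (tors F) a = can.map (eqToHom himg) ≫ ξ := by
      refine can_hom_ext ?_
      rw [unitSec_ψ, haq]
      change q = (unitSec _).left ≫ ((can.map (eqToHom himg)).top ≫ ξ.top).left
      rw [Over.comp_left, ← Category.assoc, can_map_unitSec, Category.assoc]
      have : (eqToHom himg).hom = 𝟙 v.left := (eltHom_eqToHom himg).trans (eqToHom_refl _ _)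
      rw [this]
      exact ((congrArg (· ≫ _) (ym_id _)).trans (Category.id_comp _)).symm
    haveI : IsFibGrpd (SpQuotSt Scheme.fppfPrecoverage G aX).p := isFibGrpd_spQuotSt
    haveI hmo : (overCat U).p.IsHomLift (𝟙 v.left) mo := IsHomLift.map (Over.forget U) mo
    obtain ⟨z, -, hu⟩ := existsUnique_fac (F.map (toId v)) (F.map (toId (Over.mk (ptU F a)))) (F.map mo).base (by
      rw [← SpQuotObj.comp_base, ← F.toFunctor.map_comp]
      exact congrArg (fun k => (F.map k).base) (comp_toId mo))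
    refine (hu _ ⟨rfl, ?_⟩).trans (hu _ ⟨?_, ?_⟩).symm
    · rw [← F.toFunctor.map_comp]
      exact congrArg F.map (comp_toId mo)
    · have h2 : (χ F a).hom.base = eqToHom (F.w_obj (Over.mk (ptU F a))) := by
        haveI := χ_lift F a
        exact (IsHomLift.fac' (SpQuotObj.forget Scheme.fppfPrecoverage G aX) (𝟙 v.left) (χ F a).hom).trans (by simp)
      have h3 : i.inv.base = eqToHom (F.w_obj v).symm := by
        have := congrArg (fun k => k.base) i.hom_inv_id
        simp only [SpQuotObj.comp_base, SpQuotObj.id_base, hib] at this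
        rw [← cancel_epi (eqToHom (F.w_obj v)), this, eqToHom_trans, eqToHom_refl]
        rfl
      have h4 : ((can (aX := aX)).map (eqToHom himg)).base = 𝟙 v.left :=
        (eltHom_eqToHom himg).trans (eqToHom_refl _ _)
      rw [SpQuotObj.comp_base, SpQuotObj.comp_base, h2, h3, h4,
        show (F.map mo).base = eqToHom (F.w_obj (Over.mk (ptU F a))) ≫ 𝟙 v.left ≫ eqToHom (F.w_obj v).symm from
          CategoryTheory.Functor.congr_hom F.w mo]
      exact Category.assoc _ _ _
    · rw [Category.assoc, Category.assoc, ← e, χ_fac]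
  · exact IsHomLift.of_fac' _ _ _ rfl rfl (by simp; rfl)

theorem isEquivOver_comparison : IsEquivOver (comparison F) :=
  isEquivOver_of_vertEssSurj _ (vertEssSurj_comparison F)

/-- The map of sheaves of the first projection. -/
noncomputable def projU : (tors F).P.left ⟶ y U := (tors F).π.left ≫ ym (eqToHom (tors_base F))

theorem spMapOfOver_comparison :
    spMapOfOver (BasedFunctor.comp (comparison F) (fpFst F (can (aX := aX)))) = projU F := by
  refine hom_ext_pts fun W p => (AlgSp.J S).uliftYonedaEquiv.injective ?_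
  rw [GrothendieckTopology.uliftYonedaEquiv_comp, spMapOfOver_app]
  have h : p ≫ projU F = ym (ptU F ⟨W, (AlgSp.J S).uliftYonedaEquiv p⟩) := by
    rw [ptU, ym_comp, ym_base, projU, Category.assoc]
    exact congrArg (· ≫ (tors F).π.left ≫ ym (eqToHom (tors_base F))) (Equiv.symm_apply_apply _ p).symm
  rw [h, (AlgSp.J S).uliftYonedaEquiv_apply (ym _)]
  apply ULift.ext
  change eqToHom rfl ≫ _ = 𝟙 W ≫ _
  rw [eqToHom_refl, Category.id_comp]
  exact (Category.id_comp _).symm

theorem repByAlgSpWith_can (hB : IsAlgSpace B) (hG : IsAlgSpace G.left) (P : MorphismProperty (Sp S))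
    (hloc : ∀ ⦃J : Type u⦄ ⦃Q : Sp S⦄ ⦃U : Over S⦄ (V : J → Over S) (c : ∀ i, V i ⟶ U),
      IsFppfCover (fun i => y (V i)) (fun i => ym (c i)) → IsAlgSpace Q → ∀ (f : Q ⟶ y U) (Qi : J → Sp S)
      (p : ∀ i, Qi i ⟶ y (V i)) (q : ∀ i, Qi i ⟶ Q), (∀ i, IsAlgSpace (Qi i)) →
      (∀ i, IsPullback (q i) (p i) f (ym (c i))) → (∀ i, P (p i)) → P f)
    (hbase : ∀ ⦃V : Over S⦄ (b : y V ⟶ B), P (snd G (Over.mk b)).left) :
    RepByAlgSpWith P (can (aX := aX)) := by
  intro U F
  refine ⟨⟨(tors F).P.left, isAlgSpace_torsor hB hG _⟩, comparison F, isEquivOver_comparison F, ?_⟩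
  rw [spMapOfOver_comparison]
  obtain ⟨R, hR, hsec⟩ := (tors F).loc
  choose Z f hf hflat hlfp hz using exists_points_cover (T := (tors F).base) hR
  have hp : ∀ z : (tors F).base.left, ∃ (Q : Sp S) (r : Q ⟶ y (Over.mk (f z ≫ (tors F).base.hom))) (q : Q ⟶ (tors F).P.left),
      IsPullback q r (tors F).π.left (ym (Over.homMk (f z))) ∧ IsAlgSpace Q ∧ P r := fun z => by
    obtain ⟨s, hs⟩ := hsec (f z) (hf z)
    obtain ⟨σ, -, h⟩ := isPullback_of_section (tors F) _ s hs
    exact ⟨_, _, _, isPullback_left h, isAlgSpace_trivial hB hG _, hbase _⟩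
  choose Q r q hsq hQ hr using hp
  have hU : (tors F).base = U := tors_base F
  have hpb : ∀ z, IsPullback (q z) (r z) (projU F) (ym (Over.homMk (f z) ≫ eqToHom hU)) := fun z => by
    rw [ym_comp]
    exact (hsq z).of_iso (Iso.refl _) (Iso.refl _) (Iso.refl _) ((AlgSp.yon S).mapIso (eqToIso hU))
      (by simp) (by simp) ((Category.id_comp _).symm) ((Category.id_comp _).symm)
  refine hloc (fun z => Over.mk (f z ≫ (tors F).base.hom)) (fun z => Over.homMk (f z) ≫ eqToHom hU)
    (isFppfCover_yon _ (fun z => ?_) (fun z => ?_) fun w => ?_) (isAlgSpace_torsor hB hG _) _ Q r q hQ hpb hr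
  · haveI := hflat z
    exact inferInstanceAs (Flat (f z ≫ (eqToHom hU).left))
  · haveI := hlfp z
    exact inferInstanceAs (LocallyOfFinitePresentation (f z ≫ (eqToHom hU).left))
  · obtain ⟨w', rfl⟩ : ∃ w', (eqToHom hU).left w' = w := ⟨(eqToHom hU.symm).left w, by
      rw [← Scheme.Hom.comp_apply, ← Over.comp_left, eqToHom_trans, eqToHom_refl]; rfl⟩
    obtain ⟨x, hx⟩ := hz w'
    exact ⟨w', x, congrArg (eqToHom hU).left hx⟩

end SpTorsLib
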