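import Groth.Agent.SpTorsLib.Basic

/-!
# Descent data of torsors, their morphisms, and the gluing of their underlying sheaves
-/

set_option autoImplicit false
set_option backward.isDefEq.respectTransparency false
set_option backward.isDefEq.respectTransparency.types false

universe u

open CategoryTheory CategoryTheory.Limits MonoidalCategory CartesianMonoidalCategory AlgebraicGeometry Opposite AlgSp AlgSt

namespace SpTorsLib

variable {S : Scheme.{u}} {B : Sp S} {G : Over B} [GrpObj G] {X : Over B}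

/-- A descent datum of torsors along a covering sieve. -/
structure Datum (aX : GAction G X) (T : Over S) where
  /-- the sieve -/
  R : Sieve T
  hR : R ∈ AlgSp.J S T
  /-- indices -/
  I : Type (u + 1)
  /-- the pieces -/
  A : I → SpQuotObj Scheme.fppfPrecoverage G aX
  /-- their bases map to `T` -/
  t : ∀ i, (A i).base ⟶ T
  ht : ∀ i, R (t i)
  cov : ∀ ⦃W : Over S⦄ (w : W ⟶ T), R w → ∃ (k : I) (e : W ⟶ (A k).base), IsIso e ∧ e ≫ t k = w
  /-- the comparison morphisms -/
  L : ∀ (i j : I) (g : (A i).base ⟶ (A j).base), g ≫ t j = t i → (A i ⟶ A j)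
  L_base : ∀ i j g h, (L i j g h).base = g
  L_id : ∀ i h, L i i (𝟙 _) h = 𝟙 _
  L_comp : ∀ i j k g g' h h' h'', L i j g h ≫ L j k g' h' = L i k (g ≫ g') h''

variable {aX : GAction G X} {T : Over S} (D : Datum aX T)

namespace Datum

theorem L_congr {i j : D.I} {g g' : (D.A i).base ⟶ (D.A j).base} (e : g = g') (h : g ≫ D.t j = D.t i)
    (h' : g' ≫ D.t j = D.t i) : D.L i j g h = D.L i j g' h' := by
  subst e; rfl

/-- The comparison map of total sheaves. -/
noncomputable abbrev tp (i j : D.I) (g : (D.A i).base ⟶ (D.A j).base) (h : g ≫ D.t j = D.t i) :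
    (D.A i).P.left ⟶ (D.A j).P.left := (D.L i j g h).top.left

theorem tp_comp {i j k : D.I} {g : (D.A i).base ⟶ (D.A j).base} (h : g ≫ D.t j = D.t i)
    {g' : (D.A j).base ⟶ (D.A k).base} (h' : g' ≫ D.t k = D.t j) :
    D.tp i j g h ≫ D.tp j k g' h' = D.tp i k (g ≫ g') (by rw [Category.assoc, h', h]) := by
  rw [Datum.tp, Datum.tp, Datum.tp, ← D.L_comp i j k g g' h h' (by rw [Category.assoc, h', h])]
  rfl

theorem tp_congr {i j : D.I} {g g' : (D.A i).base ⟶ (D.A j).base} (e : g = g') (h : g ≫ D.t j = D.t i)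
    (h' : g' ≫ D.t j = D.t i) : D.tp i j g h = D.tp i j g' h' := by
  subst e; rfl

theorem sq (i j : D.I) (g : (D.A i).base ⟶ (D.A j).base) (h : g ≫ D.t j = D.t i) :
    IsPullback (D.tp i j g h) (D.A i).π.left (D.A j).π.left (ym g) := by
  have := isPullback_left (D.L i j g h).cart
  have e : (bHom (D.L i j g h).base (D.L i j g h).wb).left = ym g := congrArg ym (D.L_base i j g h)
  rwa [e] at this

theorem tp_w {V : Over S} {i j : D.I} {g : (D.A i).base ⟶ (D.A j).base} (h : g ≫ D.t j = D.t i)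
    {e : V ⟶ (D.A i).base} {p : y V ⟶ (D.A i).P.left} (hp : p ≫ (D.A i).π.left = ym e) :
    (p ≫ D.tp i j g h) ≫ (D.A j).π.left = ym (e ≫ g) := by
  rw [Category.assoc, (D.sq i j g h).w, ← Category.assoc, hp, ym_comp]

/-- Transport of points between two pieces. -/
theorem exists_tr {V : Over S} (i j : D.I) (e : V ⟶ (D.A i).base) (e' : V ⟶ (D.A j).base)
    (hw : e ≫ D.t i = e' ≫ D.t j) (p : y V ⟶ (D.A i).P.left) (hp : p ≫ (D.A i).π.left = ym e) :
    ∃ q : y V ⟶ (D.A j).P.left, q ≫ (D.A j).π.left = ym e' ∧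
      ∀ (k : D.I) (e₀ : V ⟶ (D.A k).base) (_ : IsIso e₀) (r : y V ⟶ (D.A k).P.left)
        (g : (D.A k).base ⟶ (D.A i).base) (hg : g ≫ D.t i = D.t k)
        (g' : (D.A k).base ⟶ (D.A j).base) (hg' : g' ≫ D.t j = D.t k),
        r ≫ (D.A k).π.left = ym e₀ → e₀ ≫ g = e → e₀ ≫ g' = e' → r ≫ D.tp k i g hg = p →
          r ≫ D.tp k j g' hg' = q := by
  obtain ⟨k₀, a, ha, hk⟩ := D.cov (e' ≫ D.t j) (D.R.downward_closed (D.ht j) e')
  have h₀ : (inv a ≫ e) ≫ D.t i = D.t k₀ := by rw [Category.assoc, hw, ← hk, IsIso.inv_hom_id_assoc]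
  have h₀' : (inv a ≫ e') ≫ D.t j = D.t k₀ := by rw [Category.assoc, ← hk, IsIso.inv_hom_id_assoc]
  let r₀ : y V ⟶ (D.A k₀).P.left := (D.sq k₀ i (inv a ≫ e) h₀).lift p (ym a)
    (by rw [hp, ← ym_comp, IsIso.hom_inv_id_assoc])
  have hr₀ : r₀ ≫ D.tp k₀ i (inv a ≫ e) h₀ = p := IsPullback.lift_fst _ _ _ _
  have hr₀' : r₀ ≫ (D.A k₀).π.left = ym a := IsPullback.lift_snd _ _ _ _
  refine ⟨r₀ ≫ D.tp k₀ j (inv a ≫ e') h₀', ?_, ?_⟩
  · rw [D.tp_w h₀' hr₀', IsIso.hom_inv_id_assoc]
  intro k e₀ _ r g hg g' hg' hr hgi hgj hrp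
  have hc : (inv e₀ ≫ a) ≫ D.t k₀ = D.t k := by
    rw [Category.assoc, hk, ← hgj, Category.assoc, hg', IsIso.inv_hom_id_assoc]
  have e1 : r ≫ D.tp k k₀ (inv e₀ ≫ a) hc = r₀ := by
    refine (D.sq k₀ i (inv a ≫ e) h₀).hom_ext ?_ ?_
    · rw [Category.assoc, D.tp_comp hc h₀, hr₀]
      refine Eq.trans (congrArg (r ≫ ·) (D.tp_congr ?_ _ hg)) hrp
      rw [Category.assoc, IsIso.hom_inv_id_assoc, ← hgi, IsIso.inv_hom_id_assoc]
    · rw [D.tp_w hc hr, hr₀', IsIso.hom_inv_id_assoc]
  rw [← e1, Category.assoc, D.tp_comp hc h₀']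
  refine congrArg (r ≫ ·) (D.tp_congr ?_ hg' _)
  rw [Category.assoc, IsIso.hom_inv_id_assoc, ← hgj, IsIso.inv_hom_id_assoc]

/-- A section of the glued sheaf. -/
@[ext]
structure Fam (W : Over S) : Type (u + 1) where
  /-- the point of `T` -/
  u : W ⟶ T
  /-- the values -/
  val : ∀ (V : Over S) (i : D.I) (e : V ⟶ (D.A i).base) (k : V ⟶ W), k ≫ u = e ≫ D.t i → (y V ⟶ (D.A i).P.left)
  val_π : ∀ V i e k h, val V i e k h ≫ (D.A i).π.left = ym e
  val_nat : ∀ (V V' : Over S) (m : V' ⟶ V) i e k h h',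
    ym m ≫ val V i e k h = val V' i (m ≫ e) (m ≫ k) h'
  val_tp : ∀ V i j (g : (D.A i).base ⟶ (D.A j).base) (hg : g ≫ D.t j = D.t i) e k h h',
    val V i e k h ≫ D.tp i j g hg = val V j (e ≫ g) k h'

variable {D}

theorem Fam.val_congr {W : Over S} {a a' : D.Fam W} (ea : a = a') (V : Over S) (i : D.I)
    {e e' : V ⟶ (D.A i).base} (ee : e = e') {k k' : V ⟶ W} (ek : k = k') (h : k ≫ a.u = e ≫ D.t i)
    (h' : k' ≫ a'.u = e' ≫ D.t i) : a.val V i e k h = a'.val V i e' k' h' := by
  subst ea ee ek; rfl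

theorem Fam.ext' {W : Over S} {a a' : D.Fam W} (hu : a.u = a'.u)
    (hv : ∀ V i e k h h', a.val V i e k h = a'.val V i e k h') : a = a' := by
  obtain ⟨u, v, _, _, _⟩ := a
  obtain ⟨u', v', _, _, _⟩ := a'
  obtain rfl : u = u' := hu
  obtain rfl : v = v' := by funext V i e k h; exact hv V i e k h h
  rfl

/-- Restriction of sections. -/
noncomputable def Fam.res {W W' : Over S} (m : W' ⟶ W) (a : D.Fam W) : D.Fam W' where
  u := m ≫ a.u
  val V i e k h := a.val V i e (k ≫ m) (by rw [Category.assoc, h])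
  val_π V i e k h := a.val_π _ _ _ _ _
  val_nat V V' n i e k h h' := by
    rw [a.val_nat V V' n i e (k ≫ m) _ (by rw [Category.assoc, Category.assoc]; simpa [Category.assoc] using h')]
    exact Fam.val_congr rfl _ _ rfl (Category.assoc _ _ _).symm _ _
  val_tp V i j g hg e k h h' := a.val_tp _ _ _ _ hg _ _ _ _

variable (D)

/-- The presheaf of sections. -/
noncomputable def psh : (Over S)ᵒᵖ ⥤ Type (u + 1) where
  obj W := D.Fam W.unop
  map m := TypeCat.ofHom fun a => Fam.res m.unop a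
  map_id W := ConcreteCategory.hom_ext _ _ fun a => by
    change Fam.res _ a = a
    refine Fam.ext' (Category.id_comp _) fun V i e k h h' => ?_
    exact Fam.val_congr rfl _ _ rfl (Category.comp_id _) _ _
  map_comp m n := ConcreteCategory.hom_ext _ _ fun a => by
    change Fam.res _ a = Fam.res n.unop (Fam.res m.unop a)
    refine Fam.ext' (Category.assoc _ _ _) fun V i e k h h' => ?_
    exact Fam.val_congr rfl _ _ rfl (Category.assoc _ _ _).symm _ _

theorem isSheaf_psh : Presieve.IsSheaf (AlgSp.J S) D.psh := by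
  intro W R' hR' x hx
  rw [Presieve.compatible_iff_sieveCompatible] at hx
  have hcomp : ∀ ⦃V V' : Over S⦄ (g : V' ⟶ V) (f : V ⟶ W) (hf : R' f),
      x (g ≫ f) (R'.downward_closed hf g) = Fam.res g (x f hf) := fun V V' g f hf => hx f g hf
  obtain ⟨zu, hzu, hzu'⟩ := pt_glue hR' (Z := y T) (fun V f hf => ym (x f hf).u) (fun V V' g f hf => by
    refine (ym_comp g _).symm.trans (congrArg ym ?_)
    rw [hcomp g f hf]
    rfl)
  have hu : ∀ ⦃V : Over S⦄ (f : V ⟶ W) (hf : R' f), f ≫ base zu = (x f hf).u := fun V f hf => by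
    rw [← base_precomp, hzu f hf, base_ym]
  have key : ∀ (V : Over S) (i : D.I) (e : V ⟶ (D.A i).base) (k : V ⟶ W), k ≫ base zu = e ≫ D.t i →
      ∃! z : y V ⟶ (D.A i).P.left, ∀ ⦃V' : Over S⦄ (f : V' ⟶ V) (hf : (R'.pullback k) f),
        ∀ h, ym f ≫ z = (x (f ≫ k) hf).val V' i (f ≫ e) (𝟙 _) h := by
    intro V i e k hk
    have hh : ∀ ⦃V' : Over S⦄ (f : V' ⟶ V) (hf : (R'.pullback k) f),
        𝟙 V' ≫ (x (f ≫ k) hf).u = (f ≫ e) ≫ D.t i := fun V' f hf => by
      rw [Category.id_comp, ← hu (f ≫ k) hf, Category.assoc, hk, Category.assoc]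
    obtain ⟨z, hz, hz'⟩ := pt_glue ((AlgSp.J S).pullback_stable k hR') (Z := (D.A i).P.left)
      (fun V' f hf => (x (f ≫ k) hf).val V' i (f ≫ e) (𝟙 _) (hh f hf)) (fun V' V'' g f hf => by
        rw [(x (f ≫ k) hf).val_nat V' V'' g i (f ≫ e) (𝟙 _) _ (by rw [Category.assoc, hh f hf, Category.assoc, Category.assoc, Category.assoc])]
        have e1 : x ((g ≫ f) ≫ k) ((R'.pullback k).downward_closed hf g) = Fam.res g (x (f ≫ k) hf) := by
          rw [← hcomp g (f ≫ k) hf]
          congr 1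
        refine Eq.trans ?_ (Fam.val_congr e1 _ _ (e := (g ≫ f) ≫ e) (e' := g ≫ f ≫ e) (Category.assoc _ _ _)
          (k := 𝟙 V'') (k' := 𝟙 V'') rfl _ (by
            change 𝟙 V'' ≫ g ≫ _ = _
            rw [Category.id_comp, Category.assoc, ← hh f hf, Category.id_comp])).symm
        exact Fam.val_congr rfl _ _ rfl (by rw [Category.comp_id, Category.id_comp]) _ _)
    exact ⟨z, fun V' f hf h => hz f hf, fun z' hz'' => hz' z' fun V' f hf => hz'' f hf _⟩
  choose v hv hvu using key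
  have hvπ : ∀ V i e k h, v V i e k h ≫ (D.A i).π.left = ym e := fun V i e k h =>
    pt_ext ((AlgSp.J S).pullback_stable k hR') fun V' f hf => by
      rw [← Category.assoc, hv V i e k h f hf
        (by rw [Category.id_comp, ← hu (f ≫ k) hf, Category.assoc, h, Category.assoc]), (x _ hf).val_π, ym_comp]
  let z : D.Fam W :=
    { u := base zu
      val := v
      val_π := hvπ
      val_nat := fun V V' m i e k h h' => by
        refine hvu V' i (m ≫ e) (m ≫ k) h' _ fun V'' f hf hh => ?_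
        have hf' : (R'.pullback k) (f ≫ m) := by
          change R' ((f ≫ m) ≫ k)
          rw [Category.assoc]
          exact hf
        rw [← Category.assoc, ← ym_comp, hv V i e k h (f ≫ m) hf' (by
          rw [Category.id_comp, ← hu _ hf', Category.assoc, h]
          simp only [Category.assoc])]
        exact Fam.val_congr (by congr 1) _ _ (Category.assoc _ _ _) rfl _ _
      val_tp := fun V i j g hg e k h h' => by
        refine hvu V j (e ≫ g) k h' _ fun V'' f hf hh => ?_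
        have hh' : 𝟙 V'' ≫ (x (f ≫ k) hf).u = (f ≫ e) ≫ D.t i := by
          rw [Category.id_comp, ← hu _ hf, Category.assoc, h, Category.assoc]
        rw [← Category.assoc, hv V i e k h f hf hh', (x (f ≫ k) hf).val_tp V'' i j g hg _ _ _ (by
          rw [Category.assoc, hg, hh'])]
        exact Fam.val_congr rfl _ _ (Category.assoc _ _ _) rfl _ _ }
  refine ⟨z, fun V f hf => ?_, fun z' hz' => ?_⟩
  · change Fam.res f z = x f hf
    refine Fam.ext' (hu f hf) fun V' i e k h h' => ?_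
    change v V' i e (k ≫ f) _ = (x f hf).val V' i e k h'
    refine (hvu V' i e (k ≫ f) _ _ fun V'' g hg hh => ?_).symm
    rw [(x f hf).val_nat V' V'' g i e k h' (by rw [Category.assoc, h', Category.assoc])]
    have e1 : x (g ≫ k ≫ f) hg = Fam.res (g ≫ k) (x f hf) := by
      rw [← hcomp (g ≫ k) f hf]
      congr 1
    refine Eq.trans ?_ (Fam.val_congr e1 _ _ (e := g ≫ e) rfl (k := 𝟙 V'') rfl _
      (by change 𝟙 V'' ≫ (g ≫ k) ≫ _ = _; rw [Category.id_comp, Category.assoc, h', Category.assoc])).symm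
    exact Fam.val_congr rfl _ _ rfl (Category.id_comp _).symm _ _
  · have hu' : z'.u = base zu := by
      have : ym z'.u = zu := hzu' _ fun V f hf => by
        rw [← ym_comp]
        exact congrArg ym (congrArg Fam.u (hz' f hf))
      rw [← this, base_ym]
    refine Fam.ext' hu' fun V i e k h h' => ?_
    refine hvu V i e k _ _ fun V' f hf hh => ?_
    rw [z'.val_nat V V' f i e k h (by rw [Category.assoc, h, Category.assoc])]
    refine Eq.trans ?_ (Fam.val_congr (hz' (f ≫ k) hf) _ _ (e := f ≫ e) rfl (k := 𝟙 V') rfl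
      (by change 𝟙 V' ≫ (f ≫ k) ≫ _ = _; rw [Category.id_comp, Category.assoc, h, Category.assoc]) hh)
    exact Fam.val_congr rfl _ _ rfl (Category.id_comp _).symm _ _

/-- The glued sheaf. -/
noncomputable def sheaf : Sp S := ⟨D.psh, (isSheaf_iff_isSheaf_of_type _ _).2 D.isSheaf_psh⟩

end Datum

end SpTorsLib
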