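import Groth.Agent.SpTorsLib.Pieces

/-!
# The glued torsor
-/

set_option autoImplicit false
set_option backward.isDefEq.respectTransparency false
set_option backward.isDefEq.respectTransparency.types false

universe u

open CategoryTheory CategoryTheory.Limits MonoidalCategory CartesianMonoidalCategory AlgebraicGeometry Opposite AlgSp AlgSt

namespace SpTorsLib

variable {S : Scheme.{u}} {B : Sp S} {G : Over B} [GrpObj G] {X : Over B} {aX : GAction G X} {T : Over S}

namespace Datum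

variable (D : Datum aX T)

/-- The structure map of the glued sheaf. -/
noncomputable def proj : D.sheaf ⟶ y T where
  hom :=
    { app := fun W => TypeCat.ofHom fun a => ⟨Fam.u a⟩
      naturality := fun W W' m => rfl }

/-- The section behind a point of the glued sheaf. -/
noncomputable def famOf {W : Over S} (q : y W ⟶ D.sheaf) : D.Fam W := (AlgSp.J S).uliftYonedaEquiv q

/-- The point of a section. -/
noncomputable def ofFam {W : Over S} (a : D.Fam W) : y W ⟶ D.sheaf := (AlgSp.J S).uliftYonedaEquiv.symm a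

theorem famOf_ofFam {W : Over S} (a : D.Fam W) : D.famOf (D.ofFam a) = a := Equiv.apply_symm_apply _ _

theorem famOf_injective {W : Over S} {q q' : y W ⟶ D.sheaf} (h : D.famOf q = D.famOf q') : q = q' :=
  (AlgSp.J S).uliftYonedaEquiv.injective h

theorem famOf_precomp {W W' : Over S} (g : W' ⟶ W) (q : y W ⟶ D.sheaf) :
    D.famOf (ym g ≫ q) = Fam.res g (D.famOf q) :=
  ((AlgSp.J S).uliftYonedaEquiv_naturality q g).symm

theorem comp_proj {W : Over S} (q : y W ⟶ D.sheaf) : q ≫ D.proj = ym (D.famOf q).u := by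
  apply (AlgSp.J S).uliftYonedaEquiv.injective
  rw [GrothendieckTopology.uliftYonedaEquiv_comp, (AlgSp.J S).uliftYonedaEquiv_apply (ym (D.famOf q).u)]
  change (⟨(D.famOf q).u⟩ : ULift (W ⟶ T)) = ⟨𝟙 W ≫ (D.famOf q).u⟩
  rw [Category.id_comp]

theorem exists_b : ∃ b : y T ⟶ B, ∀ i, ym (D.t i) ≫ b = (D.A i).b := by
  have key : ∀ ⦃W : Over S⦄ (w : W ⟶ T), D.R w → ∀ (i j : D.I) (e : W ⟶ (D.A i).base) (e' : W ⟶ (D.A j).base),
      IsIso e → e ≫ D.t i = w → e' ≫ D.t j = w → ym e ≫ (D.A i).b = ym e' ≫ (D.A j).b := by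
    intro W w _ i j e e' _ h h'
    have hg : (inv e ≫ e') ≫ D.t j = D.t i := by rw [Category.assoc, h', ← h, IsIso.inv_hom_id_assoc]
    rw [← (D.L i j _ hg).wb, ← Category.assoc, ← ym_comp, D.L_base, IsIso.hom_inv_id_assoc]
  choose k e he hk using D.cov
  obtain ⟨b, hb, -⟩ := pt_glue D.hR (fun W w hw => ym (e w hw) ≫ (D.A (k w hw)).b) (fun W W' g w hw => by
    rw [← Category.assoc, ← ym_comp]
    exact (key (g ≫ w) (D.R.downward_closed hw g) _ _ _ (g ≫ e w hw) (he _ _) (hk _ _)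
      (by rw [Category.assoc, hk])).symm)
  refine ⟨b, fun i => ?_⟩
  rw [hb (D.t i) (D.ht i)]
  have := key (D.t i) (D.ht i) _ i _ (𝟙 _) (he _ (D.ht i)) (hk _ (D.ht i)) (Category.id_comp _)
  rw [this, ym_id, Category.id_comp]

/-- The glued section of the base. -/
noncomputable def bT : y T ⟶ B := D.exists_b.choose

theorem ym_t_bT (i : D.I) : ym (D.t i) ≫ D.bT = (D.A i).b := D.exists_b.choose_spec i

/-- The glued sheaf over the base. -/
noncomputable def total : Over B := Over.mk (D.proj ≫ D.bT)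

/-- Its structure map. -/
noncomputable def projB : D.total ⟶ Over.mk D.bT := Over.homMk D.proj rfl

/-- The transported point. -/
noncomputable def tr {V : Over S} (i j : D.I) (e : V ⟶ (D.A i).base) (e' : V ⟶ (D.A j).base)
    (hw : e ≫ D.t i = e' ≫ D.t j) (p : y V ⟶ (D.A i).P.left) (hp : p ≫ (D.A i).π.left = ym e) :
    y V ⟶ (D.A j).P.left :=
  (D.exists_tr i j e e' hw p hp).choose

theorem tr_π {V : Over S} (i j : D.I) (e : V ⟶ (D.A i).base) (e' : V ⟶ (D.A j).base)
    (hw : e ≫ D.t i = e' ≫ D.t j) (p : y V ⟶ (D.A i).P.left) (hp : p ≫ (D.A i).π.left = ym e) :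
    D.tr i j e e' hw p hp ≫ (D.A j).π.left = ym e' :=
  (D.exists_tr i j e e' hw p hp).choose_spec.1

/-- A piece of a common refinement. -/
theorem exists_mid {V : Over S} (i j : D.I) (e : V ⟶ (D.A i).base) (e' : V ⟶ (D.A j).base)
    (hw : e ≫ D.t i = e' ≫ D.t j) (p : y V ⟶ (D.A i).P.left) (hp : p ≫ (D.A i).π.left = ym e) :
    ∃ (k : D.I) (a : V ⟶ (D.A k).base) (_ : IsIso a) (g : (D.A k).base ⟶ (D.A i).base) (hg : g ≫ D.t i = D.t k)
      (g' : (D.A k).base ⟶ (D.A j).base) (_ : g' ≫ D.t j = D.t k) (r : y V ⟶ (D.A k).P.left),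
      r ≫ (D.A k).π.left = ym a ∧ a ≫ g = e ∧ a ≫ g' = e' ∧ r ≫ D.tp k i g hg = p := by
  obtain ⟨k, a, ha, hk⟩ := D.cov (e' ≫ D.t j) (D.R.downward_closed (D.ht j) e')
  have h₀ : (inv a ≫ e) ≫ D.t i = D.t k := by rw [Category.assoc, hw, ← hk, IsIso.inv_hom_id_assoc]
  have h₀' : (inv a ≫ e') ≫ D.t j = D.t k := by rw [Category.assoc, ← hk, IsIso.inv_hom_id_assoc]
  refine ⟨k, a, ha, _, h₀, _, h₀', (D.sq k i (inv a ≫ e) h₀).lift p (ym a)
    (by rw [hp, ← ym_comp, IsIso.hom_inv_id_assoc]), IsPullback.lift_snd _ _ _ _, IsIso.hom_inv_id_assoc _ _,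
    IsIso.hom_inv_id_assoc _ _, IsPullback.lift_fst _ _ _ _⟩

theorem tr_eq {V : Over S} {i j : D.I} {e : V ⟶ (D.A i).base} {e' : V ⟶ (D.A j).base}
    {hw : e ≫ D.t i = e' ≫ D.t j} {p : y V ⟶ (D.A i).P.left} {hp : p ≫ (D.A i).π.left = ym e}
    {k : D.I} {a : V ⟶ (D.A k).base} [IsIso a] {g : (D.A k).base ⟶ (D.A i).base} {hg : g ≫ D.t i = D.t k}
    {g' : (D.A k).base ⟶ (D.A j).base} (hg' : g' ≫ D.t j = D.t k) {r : y V ⟶ (D.A k).P.left}
    (hr : r ≫ (D.A k).π.left = ym a) (h1 : a ≫ g = e) (h2 : a ≫ g' = e') (h3 : r ≫ D.tp k i g hg = p) :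
    D.tr i j e e' hw p hp = r ≫ D.tp k j g' hg' :=
  ((D.exists_tr i j e e' hw p hp).choose_spec.2 k a inferInstance r g hg g' hg' hr h1 h2 h3).symm

theorem tr_self {V : Over S} (i : D.I) (e : V ⟶ (D.A i).base) (p : y V ⟶ (D.A i).P.left)
    (hp : p ≫ (D.A i).π.left = ym e) : D.tr i i e e rfl p hp = p := by
  obtain ⟨k, a, ha, g, hg, g', hg', r, hr, h1, h2, h3⟩ := D.exists_mid i i e e rfl p hp
  rw [D.tr_eq hg hr h1 h1 h3, h3]

theorem tr_tp {V : Over S} (i j j' : D.I) (e : V ⟶ (D.A i).base) (e' : V ⟶ (D.A j).base)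
    (hw : e ≫ D.t i = e' ≫ D.t j) (p : y V ⟶ (D.A i).P.left) (hp : p ≫ (D.A i).π.left = ym e)
    (h : (D.A j).base ⟶ (D.A j').base) (hh : h ≫ D.t j' = D.t j) (hw' : e ≫ D.t i = (e' ≫ h) ≫ D.t j') :
    D.tr i j e e' hw p hp ≫ D.tp j j' h hh = D.tr i j' e (e' ≫ h) hw' p hp := by
  obtain ⟨k, a, ha, g, hg, g', hg', r, hr, h1, h2, h3⟩ := D.exists_mid i j e e' hw p hp
  rw [D.tr_eq hg' hr h1 h2 h3, Category.assoc, D.tp_comp hg' hh]
  exact (D.tr_eq _ hr h1 (by rw [← h2, Category.assoc]) h3).symm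

theorem tr_nat {V V' : Over S} (m : V' ⟶ V) (i j : D.I) (e : V ⟶ (D.A i).base) (e' : V ⟶ (D.A j).base)
    (hw : e ≫ D.t i = e' ≫ D.t j) (p : y V ⟶ (D.A i).P.left) (hp : p ≫ (D.A i).π.left = ym e)
    (hw' : (m ≫ e) ≫ D.t i = (m ≫ e') ≫ D.t j) (hp' : (ym m ≫ p) ≫ (D.A i).π.left = ym (m ≫ e)) :
    ym m ≫ D.tr i j e e' hw p hp = D.tr i j (m ≫ e) (m ≫ e') hw' (ym m ≫ p) hp' := by
  obtain ⟨k, a, ha, g, hg, g', hg', r, hr, h1, h2, h3⟩ := D.exists_mid i j e e' hw p hp
  obtain ⟨k', a', ha', hk'⟩ := D.cov ((m ≫ a) ≫ D.t k) (D.R.downward_closed (D.ht k) _)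
  have hc : (inv a' ≫ m ≫ a) ≫ D.t k = D.t k' := by
    rw [Category.assoc, ← hk', IsIso.inv_hom_id_assoc]
  let r' := (D.sq k' k (inv a' ≫ m ≫ a) hc).lift (ym m ≫ r) (ym a')
    (by rw [Category.assoc, hr, ← ym_comp, ← ym_comp, IsIso.hom_inv_id_assoc])
  have hr' : r' ≫ D.tp k' k _ hc = ym m ≫ r := IsPullback.lift_fst _ _ _ _
  have hra : r' ≫ (D.A k').π.left = ym a' := IsPullback.lift_snd _ _ _ _
  rw [D.tr_eq hg' hr h1 h2 h3, D.tr_eq (k := k') (a := a') (g := (inv a' ≫ m ≫ a) ≫ g)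
    (hg := by rw [Category.assoc, hg, hc]) (g' := (inv a' ≫ m ≫ a) ≫ g') (by rw [Category.assoc, hg', hc]) hra
    (by rw [Category.assoc, IsIso.hom_inv_id_assoc, Category.assoc, h1])
    (by rw [Category.assoc, IsIso.hom_inv_id_assoc, Category.assoc, h2])
    (by rw [← D.tp_comp hc hg, ← Category.assoc, hr', Category.assoc, h3]),
    ← D.tp_comp hc hg', ← Category.assoc, ← Category.assoc, hr']

theorem tr_congr {V : Over S} {i j : D.I} {e e₁ : V ⟶ (D.A i).base} (he : e = e₁) {e' e₁' : V ⟶ (D.A j).base}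
    (he' : e' = e₁') {p p₁ : y V ⟶ (D.A i).P.left} (hp' : p = p₁) {hw : e ≫ D.t i = e' ≫ D.t j}
    {hp : p ≫ (D.A i).π.left = ym e} {hw₁ : e₁ ≫ D.t i = e₁' ≫ D.t j} {hp₁ : p₁ ≫ (D.A i).π.left = ym e₁} :
    D.tr i j e e' hw p hp = D.tr i j e₁ e₁' hw₁ p₁ hp₁ := by
  subst he he' hp'; rfl

theorem pt_π {V : Over S} {A : SpQuotObj Scheme.fppfPrecoverage G aX} (p : y V ⟶ A.P.left) :
    p ≫ A.π.left = ym (base (p ≫ A.π.left)) := (ym_base _).symm

/-- The section attached to a point of a piece. -/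
noncomputable def famPt (i : D.I) {W : Over S} (p : y W ⟶ (D.A i).P.left) : D.Fam W where
  u := base (p ≫ (D.A i).π.left) ≫ D.t i
  val V j e' k h := D.tr i j (k ≫ base (p ≫ (D.A i).π.left)) e' (by rw [Category.assoc, h]) (ym k ≫ p)
    (by rw [Category.assoc, ym_comp, ym_base])
  val_π _ _ _ _ _ := D.tr_π _ _ _ _ _ _ _
  val_nat V V' m j e k h h' := by
    rw [D.tr_nat m i j _ e _ _ _ (by rw [Category.assoc, Category.assoc, Category.assoc, h])
      (by rw [Category.assoc, Category.assoc, ym_comp, ym_comp, ym_base])]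
    exact D.tr_congr (Category.assoc _ _ _).symm rfl (by rw [ym_comp, Category.assoc])
  val_tp V j j' g hg e k h h' := D.tr_tp _ _ _ _ _ _ _ _ _ hg _

/-- The inclusion of a piece. -/
noncomputable def inj (i : D.I) : (D.A i).P.left ⟶ D.sheaf :=
  homOfPts (fun W p => D.ofFam (D.famPt i p)) fun W W' g p => by
    apply D.famOf_injective
    rw [famOf_precomp, famOf_ofFam, famOf_ofFam]
    refine Fam.ext' ?_ fun V j e k h h' => ?_
    · change base ((ym g ≫ p) ≫ _) ≫ _ = g ≫ base _ ≫ _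
      rw [Category.assoc, base_precomp, Category.assoc]
    · dsimp only [famPt, Fam.res]
      refine D.tr_congr ?_ rfl ?_
      · rw [Category.assoc (ym g) p, base_precomp, Category.assoc]
      · rw [ym_comp, Category.assoc]

theorem famOf_comp_inj (i : D.I) {W : Over S} (p : y W ⟶ (D.A i).P.left) :
    D.famOf (p ≫ D.inj i) = D.famPt i p := by
  rw [inj, comp_homOfPts, famOf_ofFam]

theorem famPt_self (i : D.I) {W : Over S} (p : y W ⟶ (D.A i).P.left) {e : W ⟶ (D.A i).base}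
    (he : p ≫ (D.A i).π.left = ym e) (h : 𝟙 W ≫ (D.famPt i p).u = e ≫ D.t i) :
    (D.famPt i p).val W i e (𝟙 W) h = p := by
  dsimp only [famPt]
  refine (D.tr_congr (e₁ := e) (hw₁ := rfl) (hp₁ := he) ?_ rfl ?_).trans (D.tr_self i e p he)
  · rw [Category.id_comp, he, base_ym]
  · rw [ym_id, Category.id_comp]

theorem famPt_val (i : D.I) {W : Over S} (a : D.Fam W) {e : W ⟶ (D.A i).base} (h : 𝟙 W ≫ a.u = e ≫ D.t i) :
    D.famPt i (a.val W i e (𝟙 W) h) = a := by
  have hb : base (a.val W i e (𝟙 W) h ≫ (D.A i).π.left) = e := by rw [a.val_π, base_ym]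
  refine Fam.ext' ?_ fun V j e' k h1 h2 => ?_
  · change base _ ≫ _ = _
    rw [hb, ← h, Category.id_comp]
  · dsimp only [famPt]
    have hk : k ≫ a.u = (k ≫ e) ≫ D.t i := by
      rw [Category.assoc, ← h, Category.id_comp]
    have hp : ym k ≫ a.val W i e (𝟙 W) h = a.val V i (k ≫ e) k hk := by
      rw [a.val_nat W V k i e (𝟙 W) h (by rw [Category.comp_id, hk])]
      exact Fam.val_congr rfl _ _ rfl (Category.comp_id _) _ _
    obtain ⟨l, c, hc, hl⟩ := D.cov (e' ≫ D.t j) (D.R.downward_closed (D.ht j) _)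
    have hg : (inv c ≫ k ≫ e) ≫ D.t i = D.t l := by
      rw [Category.assoc, ← hk, h2, ← hl, IsIso.inv_hom_id_assoc]
    have hg' : (inv c ≫ e') ≫ D.t j = D.t l := by rw [Category.assoc, ← hl, IsIso.inv_hom_id_assoc]
    rw [D.tr_congr (e₁ := k ≫ e) (hw₁ := by rw [← hk, h2]) (hp₁ := a.val_π _ _ _ _ _) (by rw [hb]) rfl hp,
      D.tr_eq (k := l) (a := c) (hg := hg) hg' (a.val_π V l c k (by rw [h2, hl]))
        (IsIso.hom_inv_id_assoc _ _) (IsIso.hom_inv_id_assoc _ _)
        (by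
          rw [a.val_tp V l i _ hg c k _ (by rw [Category.assoc, hg, h2, hl])]
          exact Fam.val_congr rfl _ _ (IsIso.hom_inv_id_assoc _ _) rfl _ _),
      a.val_tp V l j _ hg' c k _ (by rw [Category.assoc, hg', h2, hl])]
    exact Fam.val_congr rfl _ _ (IsIso.hom_inv_id_assoc _ _) rfl _ _

theorem isPullback_inj (i : D.I) : IsPullback (D.inj i) (D.A i).π.left D.proj (ym (D.t i)) := by
  refine isPullback_of_local (R := (⊤ : Sieve (D.A i).base)) ((AlgSp.J S).top_mem _) (𝟙 _) ?_ fun W a b hab _ => ?_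
  · refine hom_ext_pts fun W p => ?_
    rw [← Category.assoc, D.comp_proj, famOf_comp_inj, ← Category.assoc, pt_π p, ← ym_comp]
    rfl
  have hu : 𝟙 W ≫ (D.famOf a).u = base b ≫ D.t i := by
    rw [Category.id_comp]
    apply ym_injective
    rw [← D.comp_proj, hab, ym_comp, ym_base]
  refine ⟨(D.famOf a).val W i (base b) (𝟙 W) hu, ⟨?_, ?_⟩, fun p hp => ?_⟩
  · apply D.famOf_injective
    rw [famOf_comp_inj, famPt_val]
  · rw [(D.famOf a).val_π, ym_base]
  · have e1 : D.famPt i p = D.famOf a := by rw [← famOf_comp_inj, hp.1]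
    have he : p ≫ (D.A i).π.left = ym (base b) := by rw [ym_base, hp.2]
    rw [← D.famPt_self i p he (by rw [e1]; exact hu)]
    exact Fam.val_congr e1 _ _ rfl rfl _ _

theorem tp_inj (i j : D.I) (g : (D.A i).base ⟶ (D.A j).base) (h : g ≫ D.t j = D.t i) :
    D.tp i j g h ≫ D.inj j = D.inj i := by
  refine hom_ext_pts fun W p => D.famOf_injective ?_
  rw [← Category.assoc, famOf_comp_inj, famOf_comp_inj]
  let e := base (p ≫ (D.A i).π.left)
  have he : p ≫ (D.A i).π.left = ym e := pt_π p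
  have hp : (p ≫ D.tp i j g h) ≫ (D.A j).π.left = ym (e ≫ g) := D.tp_w h he
  have hu : 𝟙 W ≫ (D.famPt i p).u = (e ≫ g) ≫ D.t j := by
    rw [Category.id_comp, Category.assoc, h]
    rfl
  have hv : (D.famPt i p).val W j (e ≫ g) (𝟙 W) hu = p ≫ D.tp i j g h := by
    rw [← (D.famPt i p).val_tp W i j g h e (𝟙 W) (Category.id_comp _), D.famPt_self i p he]
  rw [← hv, famPt_val]

/-- The inclusion of a piece, over `B`. -/
noncomputable def injB (i : D.I) : (D.A i).P ⟶ D.total :=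
  Over.homMk (D.inj i) (by
    change D.inj i ≫ D.proj ≫ D.bT = _
    rw [← Category.assoc, (D.isPullback_inj i).w, Category.assoc, ym_t_bT]
    exact Over.w (D.A i).π)

theorem isPullback_injB (i : D.I) :
    IsPullback (D.injB i) (D.A i).π D.projB (bHom (D.t i) (D.ym_t_bT i)) :=
  isPullback_of_left (D.isPullback_inj i)

theorem tp_injB (i j : D.I) (g : (D.A i).base ⟶ (D.A j).base) (h : g ≫ D.t j = D.t i) :
    (D.L i j g h).top ≫ D.injB j = D.injB i :=
  over_hom_ext (D.tp_inj i j g h)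

theorem exists_act : ∃ a : GAction G D.total, ∀ i, (D.A i).act.act ≫ D.injB i = (G ◁ D.injB i) ≫ a.act := by
  have pb := fun i => D.isPullback_tensor_left G (D.ym_t_bT i) (D.isPullback_injB i)
  obtain ⟨F, hF⟩ := D.exists_hom_pieces pb (fun i => ((D.A i).act.act ≫ D.injB i).left) (fun i j g h =>
    ⟨(G ◁ (D.L i j g h).top).left, by rw [← Over.comp_left, ← MonoidalCategory.whiskerLeft_comp, tp_injB], by
      rw [← Over.comp_left, whiskerLeft_snd_assoc, Over.comp_left, Over.comp_left, Over.comp_left, Category.assoc]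
      exact congrArg _ (D.sq i j g h).w, by
      rw [← Over.comp_left, ← Category.assoc, ← (D.L i j g h).eqv, Category.assoc, tp_injB]⟩)
  have hw : F ≫ D.total.hom = (G ⊗ D.total).hom := D.ext_pieces pb fun i => by
    rw [← Category.assoc, hF, Over.w, Over.w]
  let a : G ⊗ D.total ⟶ D.total := Over.homMk F hw
  have ha : ∀ i, (G ◁ D.injB i) ≫ a = (D.A i).act.act ≫ D.injB i := fun i => over_hom_ext (hF i)
  refine ⟨{ act := a, one_act := ?_, mul_act := ?_ }, fun i => (ha i).symm⟩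
  · refine over_hom_ext (D.ext_pieces
      (fun i => D.isPullback_tensor_left (𝟙_ (Over B)) (D.ym_t_bT i) (D.isPullback_injB i)) fun i => ?_)
    rw [← Over.comp_left, ← Over.comp_left]
    refine congrArg (fun k : _ ⟶ _ => Over.Hom.left k) ?_
    rw [whisker_exchange_assoc, ha, ← Category.assoc, (D.A i).act.one_act, leftUnitor_naturality]
  · refine over_hom_ext (D.ext_pieces
      (fun i => D.isPullback_tensor_left (G ⊗ G) (D.ym_t_bT i) (D.isPullback_injB i)) fun i => ?_)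
    rw [← Over.comp_left, ← Over.comp_left]
    refine congrArg (fun k : _ ⟶ _ => Over.Hom.left k) ?_
    rw [whisker_exchange_assoc, ha, ← Category.assoc, (D.A i).act.mul_act, Category.assoc, Category.assoc,
      associator_naturality_right_assoc, ← MonoidalCategory.whiskerLeft_comp_assoc, ha,
      MonoidalCategory.whiskerLeft_comp, Category.assoc, ha]

/-- The action on the glued sheaf. -/
noncomputable def act : GAction G D.total := D.exists_act.choose

theorem act_inj (i : D.I) : (D.A i).act.act ≫ D.injB i = (G ◁ D.injB i) ≫ D.act.act :=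
  D.exists_act.choose_spec i

theorem act_proj : D.act.act ≫ D.projB = snd G D.total ≫ D.projB := by
  refine over_hom_ext (D.ext_pieces (fun i => D.isPullback_tensor_left G (D.ym_t_bT i) (D.isPullback_injB i))
    fun i => ?_)
  rw [← Over.comp_left, ← Over.comp_left]
  refine congrArg (fun k : _ ⟶ _ => Over.Hom.left k) ?_
  rw [← Category.assoc, ← act_inj, Category.assoc, (D.isPullback_injB i).w, ← Category.assoc, (D.A i).cart.w,
    Category.assoc, whiskerLeft_snd_assoc, (D.isPullback_injB i).w]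

theorem cart : IsPullback D.act.act (snd G D.total) D.projB D.projB := by
  refine isPullback_of_left (isPullback_of_local D.hR D.proj
    (congrArg (fun k : _ ⟶ _ => Over.Hom.left k) D.act_proj) fun W a b hab hb => ?_)
  have hab' : a ≫ D.proj = b ≫ D.proj := hab
  obtain ⟨k, e, he, hk⟩ := D.cov _ hb
  have hw : ∀ q : y W ⟶ D.sheaf, q ≫ D.proj = b ≫ D.proj → q ≫ D.proj = ym e ≫ ym (D.t k) := fun q hq => by
    rw [← ym_comp, hk, ym_base, hq]
  let ra := (D.isPullback_inj k).lift a (ym e) (hw a hab')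
  let rb := (D.isPullback_inj k).lift b (ym e) (hw b rfl)
  have hra : ra ≫ D.inj k = a := IsPullback.lift_fst _ _ _ _
  have hrb : rb ≫ D.inj k = b := IsPullback.lift_fst _ _ _ _
  have hrae : ra ≫ (D.A k).π.left = ym e := IsPullback.lift_snd _ _ _ _
  have hrbe : rb ≫ (D.A k).π.left = ym e := IsPullback.lift_snd _ _ _ _
  have sqA := isPullback_left (D.A k).cart
  let z := sqA.lift ra rb (hrae.trans hrbe.symm)
  have hz1 : z ≫ (D.A k).act.act.left = ra := IsPullback.lift_fst _ _ _ _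
  have hz2 : z ≫ (snd G (D.A k).P).left = rb := IsPullback.lift_snd _ _ _ _
  have hact : (D.A k).act.act.left ≫ D.inj k = (G ◁ D.injB k).left ≫ D.act.act.left :=
    congrArg (fun k : _ ⟶ _ => Over.Hom.left k) (D.act_inj k)
  have hsnd : (G ◁ D.injB k).left ≫ (snd G D.total).left = (snd G (D.A k).P).left ≫ D.inj k :=
    congrArg (fun k : _ ⟶ _ => Over.Hom.left k) (whiskerLeft_snd G (D.injB k))
  refine ⟨z ≫ (G ◁ D.injB k).left, ⟨?_, ?_⟩, fun p hp => ?_⟩
  · rw [Category.assoc, ← hact, ← Category.assoc, hz1, hra]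
  · rw [Category.assoc, hsnd, ← Category.assoc, hz2, hrb]
  · have sqW := isPullback_left (isPullback_whiskerLeft' (G := G) (D.injB k))
    let z' := sqW.lift p rb (hp.2.trans hrb.symm)
    have h1 : z' ≫ (G ◁ D.injB k).left = p := IsPullback.lift_fst _ _ _ _
    have h2 : z' ≫ (snd G (D.A k).P).left = rb := IsPullback.lift_snd _ _ _ _
    have h3 : z' ≫ (D.A k).act.act.left = ra := by
      refine (D.isPullback_inj k).hom_ext ?_ ?_
      · rw [Category.assoc, hact, ← Category.assoc, h1, hra]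
        exact hp.1
      · rw [Category.assoc, ← Over.comp_left, (D.A k).cart.w, Over.comp_left, ← Category.assoc, h2, hrbe, hrae]
    rw [← h1]
    exact congrArg (· ≫ (G ◁ D.injB k).left) (sqA.hom_ext (h3.trans hz1.symm) (h2.trans hz2.symm))

theorem exists_φ : ∃ φ : D.total ⟶ X, ∀ i, D.injB i ≫ φ = (D.A i).φ := by
  obtain ⟨F, hF⟩ := D.exists_hom_pieces (fun i => D.isPullback_inj i) (fun i => (D.A i).φ.left) (fun i j g h =>
    ⟨D.tp i j g h, D.tp_inj i j g h, (D.sq i j g h).w,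
      congrArg (fun k : _ ⟶ _ => Over.Hom.left k) (D.L i j g h).wφ⟩)
  have hw : F ≫ X.hom = D.total.hom := D.ext_pieces (fun i => D.isPullback_inj i) fun i => by
    rw [← Category.assoc, hF, Over.w]
    exact (Over.w (D.injB i)).symm
  exact ⟨Over.homMk F hw, fun i => over_hom_ext (hF i)⟩

/-- The map to `X`. -/
noncomputable def toX : D.total ⟶ X := D.exists_φ.choose

theorem inj_toX (i : D.I) : D.injB i ≫ D.toX = (D.A i).φ := D.exists_φ.choose_spec i

theorem eqv : D.act.act ≫ D.toX = (G ◁ D.toX) ≫ aX.act := by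
  refine over_hom_ext (D.ext_pieces (fun i => D.isPullback_tensor_left G (D.ym_t_bT i) (D.isPullback_injB i))
    fun i => ?_)
  rw [← Over.comp_left, ← Over.comp_left]
  refine congrArg (fun k : _ ⟶ _ => Over.Hom.left k) ?_
  rw [← Category.assoc, ← act_inj, Category.assoc, inj_toX, (D.A i).eqv,
    ← MonoidalCategory.whiskerLeft_comp_assoc, inj_toX]

theorem exists_covering_in : ∃ (ι : Type (u + 1)) (Z : ι → Scheme.{u}) (f : ∀ i, Z i ⟶ T.left),
    Presieve.ofArrows Z f ∈ Scheme.fppfPrecoverage T.left ∧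
      ∀ i, D.R (Over.homMk (f i) : Over.mk (f i ≫ T.hom) ⟶ T) := by
  have h : Sieve.overEquiv T D.R ∈ Scheme.fppfPrecoverage.toGrothendieck T.left :=
    (GrothendieckTopology.mem_over_iff _ _).1 D.hR
  obtain ⟨R₀, hR₀, hle⟩ := Precoverage.mem_toGrothendieck_iff_of_isStableUnderComposition.1 h
  obtain ⟨ι, Z, f, rfl⟩ := R₀.exists_eq_ofArrows
  exact ⟨ι, Z, f, hR₀, fun i => (Sieve.overEquiv_iff D.R (f i)).1 (hle _ _ (Presieve.ofArrows.mk i))⟩

theorem loc : HasSecLoc Scheme.fppfPrecoverage D.proj := by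
  obtain ⟨ι, Z, f, hf, hfR⟩ := D.exists_covering_in
  choose k e he hk using fun i => D.cov _ (hfR i)
  choose Q hQ hs using fun i => (D.A (k i)).loc
  have hb : ∀ i, ∃ (κ : Type (u + 1)) (Z' : κ → Scheme.{u}) (g : ∀ j, Z' j ⟶ Z i),
      Presieve.ofArrows Z' g ∈ Scheme.fppfPrecoverage (Z i) ∧
      ∀ j, ∃ s : y (Over.mk (g j ≫ f i ≫ T.hom)) ⟶ (D.A (k i)).P.left,
        s ≫ (D.A (k i)).π.left = ym ((Over.homMk (g j) : Over.mk (g j ≫ f i ≫ T.hom) ⟶ Over.mk (f i ≫ T.hom)) ≫ e i) := by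
    intro i
    obtain ⟨κ, Z', g, hg⟩ := ((Q i).pullbackArrows (e i).left).exists_eq_ofArrows
    refine ⟨κ, Z', g, hg ▸ Precoverage.pullbackArrows_mem (e i).left (hQ i), fun j => ?_⟩
    have hmem : (Q i).pullbackArrows (e i).left (g j) := hg.symm ▸ Presieve.ofArrows.mk j
    generalize g j = gj at hmem ⊢
    generalize Z' j = Zj at gj hmem ⊢
    obtain ⟨Y, q, hq⟩ := hmem
    obtain ⟨s, hs⟩ := hs i q hq
    let a : Over.mk (pullback.snd q (e i).left ≫ f i ≫ T.hom) ⟶ Over.mk (q ≫ (D.A (k i)).base.hom) :=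
      Over.homMk (pullback.fst q (e i).left) (by
        change pullback.fst q (e i).left ≫ q ≫ _ = _
        rw [pullback.condition_assoc, Over.w]
        rfl)
    refine ⟨ym a ≫ s, ?_⟩
    rw [Category.assoc, hs]
    change ym a ≫ ym _ = _
    rw [← ym_comp]
    exact congrArg ym (Over.OverMorphism.ext pullback.condition)
  choose κ Z' g hg hsec using hb
  refine ⟨_, Precoverage.comp_mem_coverings f hf g hg, ?_⟩
  rintro _ _ ⟨⟨i, j⟩⟩
  obtain ⟨s, hs⟩ := hsec i j
  let m : Over.mk ((g i j ≫ f i) ≫ T.hom) ⟶ Over.mk (g i j ≫ f i ≫ T.hom) :=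
    Over.homMk (𝟙 _) (by simp)
  refine ⟨ym m ≫ s ≫ D.inj (k i), ?_⟩
  have hm : m ≫ (Over.homMk (g i j) : Over.mk (g i j ≫ f i ≫ T.hom) ⟶ Over.mk (f i ≫ T.hom)) ≫
      (Over.homMk (f i) : Over.mk (f i ≫ T.hom) ⟶ T) = Over.homMk (g i j ≫ f i) :=
    Over.OverMorphism.ext (by simp [m])
  have e1 : (s ≫ D.inj (k i)) ≫ D.proj = ym
      ((Over.homMk (g i j) : Over.mk (g i j ≫ f i ≫ T.hom) ⟶ Over.mk (f i ≫ T.hom)) ≫ Over.homMk (f i)) :=
    (Category.assoc _ _ _).trans ((congrArg (s ≫ ·) (D.isPullback_inj (k i)).w).trans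
      ((Category.assoc _ _ _).symm.trans ((congrArg (· ≫ ym (D.t (k i))) hs).trans
        ((ym_comp _ _).symm.trans (congrArg ym ((Category.assoc _ _ _).trans (congrArg (_ ≫ ·) (hk i))))))))
  refine (Category.assoc _ _ _).trans ((congrArg (ym m ≫ ·) e1).trans ((ym_comp _ _).symm.trans ?_))
  exact congrArg ym hm

/-- The glued object. -/
noncomputable def glue : SpQuotObj Scheme.fppfPrecoverage G aX where
  base := T
  b := D.bT
  P := D.total
  act := D.act
  π := D.projB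
  cart := D.cart
  loc := D.loc
  φ := D.toX
  eqv := D.eqv

/-- The cocone of the glued object. -/
noncomputable def glueHom (i : D.I) : D.A i ⟶ D.glue where
  base := D.t i
  wb := D.ym_t_bT i
  top := D.injB i
  eqv := D.act_inj i
  cart := D.isPullback_injB i
  wφ := D.inj_toX i

theorem L_glueHom (i j : D.I) (g : (D.A i).base ⟶ (D.A j).base) (h : g ≫ D.t j = D.t i) :
    D.L i j g h ≫ D.glueHom j = D.glueHom i :=
  SpQuotObj.hom_ext (by change (D.L i j g h).base ≫ D.t j = D.t i; rw [D.L_base, h]) (D.tp_injB i j g h)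

end Datum

end SpTorsLib
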