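import Groth.Prelude.Def_AlgSt6
import Groth.Agent.AlgSpLib.Sheaf

/-!
# Points of fppf sheaves, and local constructions with them
-/

set_option autoImplicit false
set_option backward.isDefEq.respectTransparency false
set_option backward.isDefEq.respectTransparency.types false

universe u

open CategoryTheory CategoryTheory.Limits AlgebraicGeometry Opposite AlgSp

namespace SpTorsLib

variable {S : Scheme.{u}}

/-- `h_U`. -/
abbrev y (U : Over S) : Sp S := (yon S).obj U

/-- `h_f`. -/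
abbrev ym {U V : Over S} (f : U ⟶ V) : y U ⟶ y V := (yon S).map f

theorem ym_comp {U V W : Over S} (f : U ⟶ V) (g : V ⟶ W) : ym (f ≫ g) = ym f ≫ ym g :=
  (yon S).map_comp f g

theorem ym_id (U : Over S) : ym (𝟙 U) = 𝟙 (y U) := (yon S).map_id U

theorem ym_injective {U V : Over S} {f g : U ⟶ V} (h : ym f = ym g) : f = g :=
  (yon S).map_injective h

/-- The morphism of schemes underlying a point of `h_V`. -/
noncomputable def base {U V : Over S} (p : y U ⟶ y V) : U ⟶ V := (yon S).preimage p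

@[simp] theorem ym_base {U V : Over S} (p : y U ⟶ y V) : ym (base p) = p := (yon S).map_preimage p

@[simp] theorem base_ym {U V : Over S} (f : U ⟶ V) : base (ym f) = f := (yon S).preimage_map f

theorem base_comp {U V W : Over S} (p : y U ⟶ y V) (f : V ⟶ W) : base (p ≫ ym f) = base p ≫ f := by
  apply ym_injective
  rw [ym_base, ym_comp, ym_base]

theorem base_precomp {U V W : Over S} (f : U ⟶ V) (p : y V ⟶ y W) : base (ym f ≫ p) = f ≫ base p := by
  apply ym_injective
  rw [ym_base, ym_comp, ym_base]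

/-- Points which agree locally agree. -/
theorem pt_ext {Z : Sp S} {W : Over S} {R : Sieve W} (hR : R ∈ AlgSp.J S W) {a b : y W ⟶ Z}
    (h : ∀ ⦃V : Over S⦄ (f : V ⟶ W), R f → ym f ≫ a = ym f ≫ b) : a = b := by
  apply (AlgSp.J S).uliftYonedaEquiv.injective
  refine ((isSheaf_iff_isSheaf_of_type _ _).1 Z.property _ hR).isSeparatedFor.ext ?_
  intro V f hf
  rw [GrothendieckTopology.uliftYonedaEquiv_naturality, GrothendieckTopology.uliftYonedaEquiv_naturality]
  exact congrArg _ (h f hf)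

/-- Compatible points glue. -/
theorem pt_glue {Z : Sp S} {W : Over S} {R : Sieve W} (hR : R ∈ AlgSp.J S W)
    (x : ∀ ⦃V : Over S⦄ (f : V ⟶ W), R f → (y V ⟶ Z))
    (hx : ∀ ⦃V V' : Over S⦄ (g : V' ⟶ V) (f : V ⟶ W) (hf : R f),
      ym g ≫ x f hf = x (g ≫ f) (R.downward_closed hf g)) :
    ∃! z : y W ⟶ Z, ∀ ⦃V : Over S⦄ (f : V ⟶ W) (hf : R f), ym f ≫ z = x f hf := by
  have hZ := (isSheaf_iff_isSheaf_of_type _ _).1 Z.property _ hR
  let fam : Presieve.FamilyOfElements Z.obj R.arrows := fun V f hf => (AlgSp.J S).uliftYonedaEquiv (x f hf)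
  have hfam : fam.Compatible := by
    rw [Presieve.compatible_iff_sieveCompatible]
    intro V V' f g hf
    change _ = Z.obj.map g.op ((AlgSp.J S).uliftYonedaEquiv (x f hf))
    rw [GrothendieckTopology.uliftYonedaEquiv_naturality]
    exact congrArg (AlgSp.J S).uliftYonedaEquiv (hx g f hf).symm
  obtain ⟨z, hz, huniq⟩ := hZ fam hfam
  refine ⟨(AlgSp.J S).uliftYonedaEquiv.symm z, fun V f hf => ?_, fun z' hz' => ?_⟩
  · apply (AlgSp.J S).uliftYonedaEquiv.injective
    rw [← GrothendieckTopology.uliftYonedaEquiv_naturality, Equiv.apply_symm_apply]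
    exact hz f hf
  · rw [Equiv.eq_symm_apply]
    refine huniq _ fun V f hf => ?_
    rw [GrothendieckTopology.uliftYonedaEquiv_naturality]
    exact congrArg _ (hz' f hf)

/-- Morphisms are determined by their effect on points. -/
theorem hom_ext_pts {P Z : Sp S} {a b : P ⟶ Z} (h : ∀ (W : Over S) (p : y W ⟶ P), p ≫ a = p ≫ b) : a = b := by
  ext W x
  have := congrArg (AlgSp.J S).uliftYonedaEquiv (h W.unop ((AlgSp.J S).uliftYonedaEquiv.symm x))
  rw [GrothendieckTopology.uliftYonedaEquiv_comp, GrothendieckTopology.uliftYonedaEquiv_comp,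
    Equiv.apply_symm_apply] at this
  exact this

/-- A natural map on points is a morphism. -/
noncomputable def homOfPts {P Z : Sp S} (ψ : ∀ (W : Over S), (y W ⟶ P) → (y W ⟶ Z))
    (hψ : ∀ ⦃W W' : Over S⦄ (g : W' ⟶ W) (p : y W ⟶ P), ψ W' (ym g ≫ p) = ym g ≫ ψ W p) : P ⟶ Z where
  hom :=
    { app := fun W => TypeCat.ofHom fun x =>
        (AlgSp.J S).uliftYonedaEquiv (ψ W.unop ((AlgSp.J S).uliftYonedaEquiv.symm x))
      naturality := fun W W' g => by
        ext x
        change (AlgSp.J S).uliftYonedaEquiv (ψ W'.unop ((AlgSp.J S).uliftYonedaEquiv.symm (P.obj.map g x))) =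
          Z.obj.map g.unop.op ((AlgSp.J S).uliftYonedaEquiv (ψ W.unop ((AlgSp.J S).uliftYonedaEquiv.symm x)))
        rw [GrothendieckTopology.uliftYonedaEquiv_naturality, ← hψ]
        exact congrArg (fun t => (AlgSp.J S).uliftYonedaEquiv (ψ W'.unop t))
          (GrothendieckTopology.uliftYonedaEquiv_symm_naturality_left (J := AlgSp.J S) g.unop P x).symm }

theorem comp_homOfPts {P Z : Sp S} (ψ : ∀ (W : Over S), (y W ⟶ P) → (y W ⟶ Z))
    (hψ : ∀ ⦃W W' : Over S⦄ (g : W' ⟶ W) (p : y W ⟶ P), ψ W' (ym g ≫ p) = ym g ≫ ψ W p)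
    (W : Over S) (p : y W ⟶ P) : p ≫ homOfPts ψ hψ = ψ W p := by
  apply (AlgSp.J S).uliftYonedaEquiv.injective
  rw [GrothendieckTopology.uliftYonedaEquiv_comp]
  change (AlgSp.J S).uliftYonedaEquiv (ψ W ((AlgSp.J S).uliftYonedaEquiv.symm ((AlgSp.J S).uliftYonedaEquiv p))) = _
  rw [Equiv.symm_apply_apply]

variable {T : Over S} {R : Sieve T}

/-- Morphisms out of a sheaf over `h_T` are determined on points lying in a covering sieve. -/
theorem hom_ext_local (hR : R ∈ AlgSp.J S T) {P Z : Sp S} (π : P ⟶ y T) {a b : P ⟶ Z}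
    (h : ∀ (W : Over S) (p : y W ⟶ P), R (base (p ≫ π)) → p ≫ a = p ≫ b) : a = b := by
  refine hom_ext_pts fun W p => pt_ext ((AlgSp.J S).pullback_stable (base (p ≫ π)) hR) fun V f hf => ?_
  rw [← Category.assoc, ← Category.assoc]
  refine h V (ym f ≫ p) ?_
  rw [Category.assoc, base_precomp]
  exact hf

/-- Morphisms out of a sheaf over `h_T` can be given on points lying in a covering sieve. -/
theorem exists_hom_local (hR : R ∈ AlgSp.J S T) {P Z : Sp S} (π : P ⟶ y T)
    (ψ : ∀ (W : Over S) (p : y W ⟶ P), R (base (p ≫ π)) → (y W ⟶ Z))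
    (hψ : ∀ ⦃W W' : Over S⦄ (g : W' ⟶ W) (p : y W ⟶ P) (h : R (base (p ≫ π))) (h' : R (base ((ym g ≫ p) ≫ π))),
      ψ W' (ym g ≫ p) h' = ym g ≫ ψ W p h) :
    ∃ F : P ⟶ Z, ∀ (W : Over S) (p : y W ⟶ P) (h : R (base (p ≫ π))), p ≫ F = ψ W p h := by
  have key : ∀ (W : Over S) (p : y W ⟶ P) ⦃V : Over S⦄ (f : V ⟶ W), (R.pullback (base (p ≫ π))) f →
      R (base ((ym f ≫ p) ≫ π)) := fun W p V f hf => by rw [Category.assoc, base_precomp]; exact hf
  have hglue : ∀ (W : Over S) (p : y W ⟶ P), ∃! z : y W ⟶ Z, ∀ ⦃V : Over S⦄ (f : V ⟶ W)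
      (hf : (R.pullback (base (p ≫ π))) f), ym f ≫ z = ψ V (ym f ≫ p) (key W p f hf) := fun W p => by
    refine pt_glue ((AlgSp.J S).pullback_stable (base (p ≫ π)) hR) _ fun V V' g f hf => ?_
    have e : ym (g ≫ f) ≫ p = ym g ≫ ym f ≫ p := by rw [ym_comp, Category.assoc]
    have hcongr : ∀ (q q' : y V' ⟶ P) (_ : q = q') (h : R (base (q ≫ π))) (h' : R (base (q' ≫ π))),
        ψ V' q h = ψ V' q' h' := by rintro q _ rfl h h'; rfl
    have h' : R (base ((ym g ≫ ym f ≫ p) ≫ π)) := e ▸ key W p (g ≫ f) (Sieve.downward_closed _ hf g)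
    rw [hcongr _ _ e _ h', hψ g (ym f ≫ p) (key W p f hf) h']
  choose z hz huniq using hglue
  refine ⟨homOfPts z fun W W' g p => ?_, fun W p h => ?_⟩
  · refine (huniq W' (ym g ≫ p) _ fun V f hf => ?_).symm
    have e : ym f ≫ ym g ≫ p = ym (f ≫ g) ≫ p := by rw [ym_comp, Category.assoc]
    have hf' : (R.pullback (base (p ≫ π))) (f ≫ g) := by
      have : R (f ≫ base ((ym g ≫ p) ≫ π)) := hf
      rw [Category.assoc, base_precomp, ← Category.assoc] at this
      exact this
    have hcongr : ∀ (q q' : y V ⟶ P) (_ : q = q') (h : R (base (q ≫ π))) (h' : R (base (q' ≫ π))),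
        ψ V q h = ψ V q' h' := by rintro q _ rfl h h'; rfl
    refine (Category.assoc _ _ _).symm.trans ((congrArg (· ≫ z W p) (ym_comp f g).symm).trans ?_)
    exact (hz W p (f ≫ g) hf').trans (hcongr _ _ e.symm _ _)
  · rw [comp_homOfPts]
    refine (huniq W p _ fun V f hf => ?_).symm
    exact (hψ f p h _).symm

/-- A morphism over `h_T` which is bijective on points lying in a covering sieve is an isomorphism. -/
theorem isIso_of_local (hR : R ∈ AlgSp.J S T) {P Q : Sp S} (μ : P ⟶ Q) (π : P ⟶ y T) (π' : Q ⟶ y T)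
    (w : μ ≫ π' = π)
    (h : ∀ (W : Over S) (q : y W ⟶ Q), R (base (q ≫ π')) → ∃! p : y W ⟶ P, p ≫ μ = q) : IsIso μ := by
  choose p hp hpu using h
  obtain ⟨ν, hν⟩ := exists_hom_local hR π' p (fun W W' g q hq hq' => (hpu W' (ym g ≫ q) hq' _ (by
    change (ym g ≫ p W q hq) ≫ μ = _
    rw [Category.assoc, hp W q hq])).symm)
  refine ⟨ν, ?_, ?_⟩
  · refine hom_ext_local hR π fun W q hq => ?_
    have hq' : R (base ((q ≫ μ) ≫ π')) := by rw [Category.assoc, w]; exact hq
    rw [← Category.assoc, hν W (q ≫ μ) hq', Category.comp_id]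
    exact (hpu W (q ≫ μ) hq' q rfl).symm
  · refine hom_ext_local hR π' fun W q hq => ?_
    rw [← Category.assoc, hν W q hq, Category.comp_id]
    exact hp W q hq

/-- A square over `h_T` is cartesian as soon as it is so on points lying in a covering sieve. -/
theorem isPullback_of_local (hR : R ∈ AlgSp.J S T) {P X Y Z : Sp S} {fst : P ⟶ X} {snd : P ⟶ Y} {f : X ⟶ Z}
    {g : Y ⟶ Z} (π : Y ⟶ y T) (w : fst ≫ f = snd ≫ g)
    (h : ∀ (W : Over S) (a : y W ⟶ X) (b : y W ⟶ Y), a ≫ f = b ≫ g → R (base (b ≫ π)) →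
      ∃! p : y W ⟶ P, p ≫ fst = a ∧ p ≫ snd = b) : IsPullback fst snd f g := by
  have hiso : IsIso (pullback.lift fst snd w) := by
    refine isIso_of_local hR _ (snd ≫ π) (pullback.snd f g ≫ π)
      (by rw [pullback.lift_snd_assoc]) fun W q hq => ?_
    obtain ⟨p, ⟨h1, h2⟩, hu⟩ := h W (q ≫ pullback.fst f g) (q ≫ pullback.snd f g)
      (by rw [Category.assoc, Category.assoc, pullback.condition]) (by simpa only [Category.assoc] using hq)
    refine ⟨p, pullback.hom_ext (by simp [h1]) (by simp [h2]), fun p' hp' => hu p' ⟨?_, ?_⟩⟩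
    · rw [← hp', Category.assoc, pullback.lift_fst]
    · rw [← hp', Category.assoc, pullback.lift_snd]
  exact IsPullback.of_iso_pullback ⟨w⟩ (asIso (pullback.lift fst snd w)) (by simp) (by simp)

end SpTorsLib
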