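import Groth.Agent.SpTorsLib.Datum

/-!
# Morphisms given piecewise, and the morphism out of a family of cartesian morphisms
-/

set_option autoImplicit false
set_option backward.isDefEq.respectTransparency false
set_option backward.isDefEq.respectTransparency.types false

universe u

open CategoryTheory CategoryTheory.Limits MonoidalCategory CartesianMonoidalCategory AlgebraicGeometry Opposite AlgSp AlgSt

namespace SpTorsLib

variable {S : Scheme.{u}} {B : Sp S} {G : Over B} [GrpObj G] {X : Over B} {aX : GAction G X} {T : Over S}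

namespace Datum

variable (D : Datum aX T)

/-- Points over a member of the sieve come from a piece. -/
theorem exists_piece {Q : Sp S} {πQ : Q ⟶ y T} {Qi : D.I → Sp S} {qi : ∀ i, Qi i ⟶ Q}
    {πi : ∀ i, Qi i ⟶ y (D.A i).base} (pb : ∀ i, IsPullback (qi i) (πi i) πQ (ym (D.t i)))
    (W : Over S) (p : y W ⟶ Q) (h : D.R (base (p ≫ πQ))) :
    ∃ (k : D.I) (e : W ⟶ (D.A k).base) (_ : IsIso e) (r : y W ⟶ Qi k),
      e ≫ D.t k = base (p ≫ πQ) ∧ r ≫ qi k = p ∧ r ≫ πi k = ym e := by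
  obtain ⟨k, e, he, hk⟩ := D.cov _ h
  refine ⟨k, e, he, (pb k).lift p (ym e) ?_, hk, (pb k).lift_fst _ _ _, (pb k).lift_snd _ _ _⟩
  rw [← ym_comp, hk, ym_base]

theorem ext_pieces {Q Z : Sp S} {πQ : Q ⟶ y T} {Qi : D.I → Sp S} {qi : ∀ i, Qi i ⟶ Q}
    {πi : ∀ i, Qi i ⟶ y (D.A i).base} (pb : ∀ i, IsPullback (qi i) (πi i) πQ (ym (D.t i))) {a b : Q ⟶ Z}
    (h : ∀ i, qi i ≫ a = qi i ≫ b) : a = b :=
  hom_ext_local D.hR πQ fun W p hp => by
    obtain ⟨k, e, -, r, -, rfl, -⟩ := D.exists_piece pb W p hp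
    rw [Category.assoc, Category.assoc, h]

theorem exists_hom_pieces {Q Z : Sp S} {πQ : Q ⟶ y T} {Qi : D.I → Sp S} {qi : ∀ i, Qi i ⟶ Q}
    {πi : ∀ i, Qi i ⟶ y (D.A i).base} (pb : ∀ i, IsPullback (qi i) (πi i) πQ (ym (D.t i)))
    (f : ∀ i, Qi i ⟶ Z)
    (hf : ∀ (i j : D.I) (g : (D.A i).base ⟶ (D.A j).base), g ≫ D.t j = D.t i →
      ∃ l : Qi i ⟶ Qi j, l ≫ qi j = qi i ∧ l ≫ πi j = πi i ≫ ym g ∧ l ≫ f j = f i) :
    ∃ F : Q ⟶ Z, ∀ i, qi i ≫ F = f i := by
  choose kk ee hee rr hk hrq hrπ using fun W p h => D.exists_piece pb W p h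
  have key : ∀ (W : Over S) (p : y W ⟶ Q) (h : D.R (base (p ≫ πQ))) (j : D.I) (e' : W ⟶ (D.A j).base)
      (r' : y W ⟶ Qi j), r' ≫ qi j = p → r' ≫ πi j = ym e' → r' ≫ f j = rr W p h ≫ f (kk W p h) := by
    intro W p h j e' r' h1 h2
    haveI := hee W p h
    have he' : e' ≫ D.t j = base (p ≫ πQ) := by
      apply ym_injective
      rw [ym_base, ← h1, Category.assoc, (pb j).w, ← Category.assoc, h2, ym_comp]
    have hg : (inv (ee W p h) ≫ e') ≫ D.t j = D.t (kk W p h) := by
      rw [Category.assoc, he', ← hk W p h, IsIso.inv_hom_id_assoc]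
    obtain ⟨l, l1, l2, l3⟩ := hf _ _ _ hg
    have e : rr W p h ≫ l = r' := by
      refine (pb j).hom_ext ?_ ?_
      · rw [Category.assoc, l1, hrq, h1]
      · rw [Category.assoc, l2, ← Category.assoc, hrπ, ← ym_comp, IsIso.hom_inv_id_assoc, h2]
    rw [← e, Category.assoc, l3]
  obtain ⟨F, hF⟩ := exists_hom_local D.hR πQ (fun W p h => rr W p h ≫ f (kk W p h))
    (fun W W' g p h h' => by
      refine (key W' (ym g ≫ p) h' (kk W p h) (g ≫ ee W p h) (ym g ≫ rr W p h) ?_ ?_).symm.trans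
        (Category.assoc _ _ _)
      · rw [Category.assoc, hrq]
      · rw [Category.assoc, hrπ, ym_comp])
  refine ⟨F, fun i => hom_ext_pts fun W r => ?_⟩
  have he : (r ≫ qi i) ≫ πQ = ym (base (r ≫ πi i) ≫ D.t i) := by
    rw [ym_comp, ym_base, Category.assoc, (pb i).w, Category.assoc]
  have h : D.R (base ((r ≫ qi i) ≫ πQ)) := by
    rw [he, base_ym]
    exact D.R.downward_closed (D.ht i) _
  rw [← Category.assoc, hF W (r ≫ qi i) h]
  exact (key W (r ≫ qi i) h i (base (r ≫ πi i)) r rfl (ym_base _).symm).symm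

/-- The product of a fixed sheaf with a piece. -/
theorem isPullback_tensor_left {P : Over B} {b : y T ⟶ B} {πP : P ⟶ Over.mk b} (Y : Over B) {i : D.I}
    {ι : (D.A i).P ⟶ P} (w : ym (D.t i) ≫ b = (D.A i).b)
    (pb : IsPullback ι (D.A i).π πP (bHom (D.t i) w)) :
    IsPullback (Y ◁ ι).left (snd Y (D.A i).P ≫ (D.A i).π).left (snd Y P ≫ πP).left (ym (D.t i)) :=
  isPullback_left ((isPullback_whiskerLeft' (G := Y) ι).paste_vert pb)

end Datum

/-- A family of cartesian morphisms from the pieces is initial. -/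
theorem existsUnique_desc {A A' : SpQuotObj Scheme.fppfPrecoverage G aX} (D : Datum aX A.base)
    (c : ∀ i, D.A i ⟶ A) (hc : ∀ i, (c i).base = D.t i)
    (hcL : ∀ i j g h, D.L i j g h ≫ c j = c i)
    (n : ∀ i, D.A i ⟶ A') (g : A.base ⟶ A'.base) (hn : ∀ i, (n i).base = D.t i ≫ g)
    (hnL : ∀ i j g' h, D.L i j g' h ≫ n j = n i) :
    ∃! m : A ⟶ A', m.base = g ∧ ∀ i, c i ≫ m = n i := by
  have wc : ∀ i, ym (D.t i) ≫ A.b = (D.A i).b := fun i => hc i ▸ (c i).wb
  have pbO : ∀ i, IsPullback (c i).top (D.A i).π A.π (bHom (D.t i) (wc i)) := fun i => by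
    convert (c i).cart using 2
    exact (hc i).symm
  have pb : ∀ i, IsPullback (c i).top.left (D.A i).π.left A.π.left (ym (D.t i)) := fun i => isPullback_left (pbO i)
  obtain ⟨F, hF⟩ := D.exists_hom_pieces pb (fun i => (n i).top.left) (fun i j g' h =>
    ⟨D.tp i j g' h, congrArg (fun k => k.top.left) (hcL i j g' h), (D.sq i j g' h).w,
      congrArg (fun k => k.top.left) (hnL i j g' h)⟩)
  have hwF : F ≫ A'.P.hom = A.P.hom :=
    D.ext_pieces pb fun i => by
      rw [← Category.assoc, hF, Over.w, Over.w]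
  let top : A.P ⟶ A'.P := Over.homMk F hwF
  have htop : ∀ i, (c i).top ≫ top = (n i).top := fun i => over_hom_ext (hF i)
  have wb : ym g ≫ A'.b = A.b := by
    refine pt_ext D.hR fun V f hf => ?_
    obtain ⟨k, e, -, hk⟩ := D.cov f hf
    rw [← hk, ym_comp, Category.assoc, Category.assoc, wc, ← Category.assoc (ym (D.t k)), ← ym_comp,
      ← hn k, (n k).wb]
  have heqv : A.act.act ≫ top = (G ◁ top) ≫ A'.act.act := by
    refine over_hom_ext (D.ext_pieces (fun i => D.isPullback_tensor_left G (wc i) (pbO i)) fun i => ?_)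
    rw [← Over.comp_left, ← Over.comp_left]
    refine congrArg (fun k : _ ⟶ _ => Over.Hom.left k) ?_
    rw [← Category.assoc, ← (c i).eqv, Category.assoc, htop, (n i).eqv, ← MonoidalCategory.whiskerLeft_comp_assoc,
      htop]
  have wπ : F ≫ A'.π.left = A.π.left ≫ ym g := by
    refine D.ext_pieces pb fun i => ?_
    rw [← Category.assoc, hF, ← Category.assoc, (pb i).w, Category.assoc, ← ym_comp, ← hn i]
    exact congrArg (fun k : _ ⟶ _ => Over.Hom.left k) (n i).cart.w
  have hcart : IsPullback top A.π A'.π (bHom g wb) := by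
    refine isPullback_of_left ?_
    change IsPullback F A.π.left A'.π.left (ym g)
    refine isPullback_of_local D.hR (𝟙 _) wπ fun W a b hab hb => ?_
    rw [Category.comp_id] at hb
    obtain ⟨k, e, he, hk⟩ := D.cov _ hb
    have hsq : IsPullback (n k).top.left (D.A k).π.left A'.π.left (ym (D.t k ≫ g)) := by
      convert isPullback_left (n k).cart using 1
      exact congrArg ym (hn k).symm
    have hbk : b = ym e ≫ ym (D.t k) := by rw [← ym_comp, hk, ym_base]
    obtain ⟨r, hr1, hr2⟩ : ∃ r : y W ⟶ (D.A k).P.left, r ≫ (n k).top.left = a ∧ r ≫ (D.A k).π.left = ym e :=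
      ⟨hsq.lift a (ym e) (by rw [hab, hbk, ym_comp, Category.assoc]), hsq.lift_fst _ _ _, hsq.lift_snd _ _ _⟩
    refine ⟨r ≫ (c k).top.left, ⟨?_, ?_⟩, fun p hp => ?_⟩
    · rw [Category.assoc, hF, hr1]
    · rw [Category.assoc, (pb k).w, ← Category.assoc, hr2, hbk]
    · let r' := (pb k).lift p (ym e) (by rw [hp.2, hbk])
      have h1 : r' ≫ (c k).top.left = p := (pb k).lift_fst _ _ _
      have h2 : r' ≫ (D.A k).π.left = ym e := (pb k).lift_snd _ _ _
      rw [← h1]
      refine congrArg (· ≫ (c k).top.left) (hsq.hom_ext ?_ (h2.trans hr2.symm))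
      rw [← hF k, ← Category.assoc, h1, hp.1, ← Category.assoc, hr1.symm, ← hF k, Category.assoc]
  have wφ : top ≫ A'.φ = A.φ := over_hom_ext (D.ext_pieces pb fun i => by
    rw [← Over.comp_left, ← Over.comp_left, ← Category.assoc, htop, (n i).wφ, (c i).wφ])
  let m : A ⟶ A' := { base := g, wb := wb, top := top, eqv := heqv, cart := hcart, wφ := wφ }
  refine ⟨m, ⟨rfl, fun i => SpQuotObj.hom_ext ?_ (htop i)⟩, fun m' hm' => SpQuotObj.hom_ext hm'.1 ?_⟩
  · change (c i).base ≫ g = (n i).base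
    rw [hc, hn]
  · refine over_hom_ext (D.ext_pieces pb fun i => ?_)
    rw [← Over.comp_left, ← Over.comp_left, htop]
    exact congrArg (fun k => k.top.left) (hm'.2 i)

end SpTorsLib
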